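import Mathlib.LinearAlgebra.RootSystem.Finite.Lemmas
import Mathlib.LinearAlgebra.RootSystem.Finite.Nondegenerate
import Mathlib.LinearAlgebra.RootSystem.WeylGroup
import Groth.Prelude.Def_W4sga3xxiRoot

/-! Foundations for root data over `ℤ` (SGA3 XXI), part 1. -/

set_option autoImplicit false

namespace Groth.Agent.H23.RD

open RootD Set

variable {ι M N : Type*} [AddCommGroup M] [AddCommGroup N] (P : RootPairing ι ℤ M N)

@[simp] lemma root_negIdx (i : ι) : P.root (P.reflectionPerm i i) = - P.root i := by simp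

@[simp] lemma negIdx_negIdx (k : ι) :
    P.reflectionPerm (P.reflectionPerm k k) (P.reflectionPerm k k) = k := by
  apply P.root.injective
  rw [root_negIdx, root_negIdx, neg_neg]

lemma pairingIn_int (i j : ι) : P.pairingIn ℤ i j = P.pairing i j := by
  simpa using P.algebraMap_pairingIn ℤ i j

lemma pairing_negIdx_left (i j : ι) : P.pairing (P.reflectionPerm i i) j = - P.pairing i j := by
  simp

lemma pairing_negIdx_right (i j : ι) : P.pairing i (P.reflectionPerm j j) = - P.pairing i j := by
  simp

section finite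
variable [Finite ι]

lemma sub_mem_of_pairing_pos {i j : ι} (h : 0 < P.pairing i j) (hij : i ≠ j) :
    P.root i - P.root j ∈ range P.root :=
  P.root_sub_root_mem_of_pairingIn_pos (by rwa [pairingIn_int]) hij

lemma add_mem_of_pairing_neg {i j : ι} (h : P.pairing i j < 0) (hij : P.root i ≠ - P.root j) :
    P.root i + P.root j ∈ range P.root :=
  P.root_add_root_mem_of_pairingIn_neg (by rwa [pairingIn_int]) hij

lemma pairing_pos_iff {i j : ι} : 0 < P.pairing i j ↔ 0 < P.pairing j i := by
  have := P.zero_lt_pairingIn_iff' ℤ (i := i) (j := j)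
  rwa [pairingIn_int, pairingIn_int] at this

lemma pairing_neg_iff {i j : ι} : P.pairing i j < 0 ↔ P.pairing j i < 0 := by
  have := P.pairingIn_lt_zero_iff ℤ (i := i) (j := j)
  rwa [pairingIn_int, pairingIn_int] at this

end finite

lemma pairing_zero_iff {i j : ι} : P.pairing i j = 0 ↔ P.pairing j i = 0 :=
  P.pairing_eq_zero_iff'


lemma root_mem_rootSpan (i : ι) : P.root i ∈ P.rootSpan ℤ :=
  Submodule.subset_span (mem_range_self i)

section form
variable [Fintype ι]

lemma rootForm_root_pos (i : ι) : 0 < P.RootForm (P.root i) (P.root i) :=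
  P.rootForm_pos_of_ne_zero (root_mem_rootSpan P i) (P.ne_zero i)

lemma two_mul_rootForm (i j : ι) :
    2 * P.RootForm (P.root i) (P.root j) = P.pairing i j * P.RootForm (P.root j) (P.root j) :=
  (P.posRootForm ℤ).two_mul_apply_root_root i j

lemma rootForm_pos_iff (i j : ι) : 0 < P.RootForm (P.root i) (P.root j) ↔ 0 < P.pairing i j := by
  have h1 := two_mul_rootForm P i j
  have h2 := rootForm_root_pos P j
  constructor
  · intro h
    have : 0 < P.pairing i j * P.RootForm (P.root j) (P.root j) := by rw [← h1]; positivity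
    exact (pos_iff_pos_of_mul_pos this).mpr h2
  · intro h
    have : 0 < 2 * P.RootForm (P.root i) (P.root j) := by rw [h1]; positivity
    linarith

lemma rootForm_nonpos_iff (i j : ι) : P.RootForm (P.root i) (P.root j) ≤ 0 ↔ P.pairing i j ≤ 0 := by
  rw [← not_lt, ← not_lt, rootForm_pos_iff]

lemma rootForm_comm (x y : M) : P.RootForm x y = P.RootForm y x :=
  (P.rootForm_symmetric.eq y x).symm

end form

section natSpan

/-- abbreviation: integer linear combination of roots -/
noncomputable abbrev lc (c : ι →₀ ℤ) : M := Finsupp.linearCombination ℤ P.root c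

lemma mem_natSpan_iff {S : Set ι} {x : M} :
    x ∈ natSpan P S ↔ ∃ c : ι →₀ ℤ, (∀ i, 0 ≤ c i) ∧ ↑c.support ⊆ S ∧ lc P c = x := by
  constructor
  · intro hx
    unfold natSpan at hx
    induction hx using AddSubmonoid.closure_induction with
    | mem y hy =>
      obtain ⟨i, hi, rfl⟩ := hy
      classical
      refine ⟨Finsupp.single i 1, fun j => ?_, ?_, by simp [lc]⟩
      · rw [Finsupp.single_apply]; split_ifs <;> simp
      · intro j hj
        have := Finsupp.support_single_subset hj
        simp only [Finset.mem_singleton] at this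
        rwa [this]
    | zero => exact ⟨0, fun _ => le_rfl, by simp, by simp [lc]⟩
    | add x y _ _ hx hy =>
      obtain ⟨c, hc0, hcS, rfl⟩ := hx
      obtain ⟨d, hd0, hdS, rfl⟩ := hy
      classical
      refine ⟨c + d, fun i => add_nonneg (hc0 i) (hd0 i), ?_, by simp [lc]⟩
      intro j hj
      rcases Finset.mem_union.1 (Finsupp.support_add hj) with h | h
      · exact hcS h
      · exact hdS h
  · rintro ⟨c, hc0, hcS, rfl⟩
    rw [lc, Finsupp.linearCombination_apply, Finsupp.sum]
    refine AddSubmonoid.sum_mem _ (fun i hi => ?_)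
    have : c i • P.root i = (c i).toNat • P.root i := by
      rw [← natCast_zsmul, Int.toNat_of_nonneg (hc0 i)]
    rw [this]
    exact AddSubmonoid.nsmul_mem _ (AddSubmonoid.subset_closure (Set.mem_image_of_mem _ (hcS hi))) _

lemma neg_mem_natSpan_iff {S : Set ι} {x : M} :
    -x ∈ natSpan P S ↔ ∃ c : ι →₀ ℤ, (∀ i, c i ≤ 0) ∧ ↑c.support ⊆ S ∧ lc P c = x := by
  rw [mem_natSpan_iff]
  constructor
  · rintro ⟨c, hc0, hcS, hc⟩
    refine ⟨-c, fun i => by simpa using hc0 i, by simpa using hcS, ?_⟩
    simp only [lc, map_neg] at hc ⊢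
    rw [hc, neg_neg]
  · rintro ⟨c, hc0, hcS, hc⟩
    refine ⟨-c, fun i => by simpa using hc0 i, by simpa using hcS, ?_⟩
    simp only [lc, map_neg] at hc ⊢
    rw [hc]

lemma natSpan_mono {S T : Set ι} (h : S ⊆ T) : natSpan P S ≤ natSpan P T :=
  AddSubmonoid.closure_mono (Set.image_mono h)

lemma root_mem_natSpan {S : Set ι} {i : ι} (hi : i ∈ S) : P.root i ∈ natSpan P S :=
  AddSubmonoid.subset_closure ⟨i, hi, rfl⟩

end natSpan

section torsion

include P in
lemma zsmul_inj {a : ℤ} (ha : a ≠ 0) {x y : M} (h : a • x = a • y) : x = y := by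
  have : Module.IsReflexive ℤ M := .of_isPerfPair P.toLinearMap
  exact smul_right_injective M ha h

lemma pairing_of_root_eq_zsmul {i j : ι} {n : ℤ} (h : P.root j = n • P.root i) (l : ι) :
    P.pairing j l = n * P.pairing i l := by
  have := congrArg (P.coroot' l) h
  simpa [P.root_coroot'_eq_pairing] using this

/-- If a root is an integer multiple of a root, the multiplier is `±1` or `±2`. -/
lemma int_of_root_eq_zsmul {i j : ι} {n : ℤ} (h : P.root j = n • P.root i) :
    n = 1 ∨ n = -1 ∨ n = 2 ∨ n = -2 := by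
  have h1 := pairing_of_root_eq_zsmul P h j
  rw [P.pairing_same] at h1
  have hd : n ∣ 2 := ⟨_, h1⟩
  have hle := Int.le_of_dvd (by norm_num) hd
  have hneg : -n ∣ 2 := (neg_dvd).2 hd
  have hle' := Int.le_of_dvd (by norm_num) hneg
  have hn0 : n ≠ 0 := by rintro rfl; simp at h1
  have : n = -2 ∨ n = -1 ∨ n = 1 ∨ n = 2 := by omega
  rcases this with h | h | h | h <;> simp [h]

lemma reflection_eq_of_root_eq_zsmul [Finite ι] {i j : ι} {t : ℤ} (h : P.root j = t • P.root i) :
    P.reflection j = P.reflection i := by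
  have : Module.IsReflexive ℤ N := .of_isPerfPair P.flip.toLinearMap
  have : IsAddTorsionFree N := .of_isTorsionFree ℤ N
  have hc : t • P.coroot j = P.coroot i := RootPairing.smul_coroot_eq_of_root_eq_smul i j t h
  ext x
  have e : P.coroot' i x = t * P.coroot' j x := by
    simp only [RootPairing.coroot', ← hc, map_smul, LinearMap.smul_apply, smul_eq_mul]
  rw [P.reflection_apply, P.reflection_apply, h, e, mul_comm, mul_smul]

end torsion

section chain

lemma exists_sub_mem [Finite ι] {κ : Type*} (s : Finset κ) (a : κ → ι) (m : κ → ℕ) (k : ι)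
    (hne : ∀ l ∈ s, a l ≠ k) (c : ℕ) (hc : 0 < c)
    (hk : c • P.root k = ∑ l ∈ s, m l • P.root (a l)) :
    ∃ l ∈ s, m l ≠ 0 ∧ 0 < P.pairing (a l) k ∧ P.root k - P.root (a l) ∈ Set.range P.root := by
  classical
  have : Fintype ι := Fintype.ofFinite ι
  have h1 : 0 < P.RootForm (c • P.root k) (P.root k) := by
    rw [map_nsmul, LinearMap.smul_apply, nsmul_eq_mul]
    have := rootForm_root_pos P k
    positivity
  rw [hk] at h1
  simp only [map_sum, map_nsmul, LinearMap.sum_apply, LinearMap.smul_apply, nsmul_eq_mul] at h1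
  have h2 : ∃ l ∈ s, 0 < (m l : ℤ) * P.RootForm (P.root (a l)) (P.root k) := by
    by_contra hcon
    push Not at hcon
    exact absurd h1 (not_lt.2 (Finset.sum_nonpos hcon))
  obtain ⟨l, hl, hpos⟩ := h2
  have hm : m l ≠ 0 := by
    rintro h0
    simp [h0] at hpos
  have hB : 0 < P.RootForm (P.root (a l)) (P.root k) := by
    have hm' : (0 : ℤ) < m l := by exact_mod_cast Nat.pos_of_ne_zero hm
    exact (pos_iff_pos_of_mul_pos hpos).mp hm'
  have hp : 0 < P.pairing (a l) k := (rootForm_pos_iff P _ _).1 hB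
  exact ⟨l, hl, hm, hp, sub_mem_of_pairing_pos P ((pairing_pos_iff P).1 hp) (hne l hl).symm⟩

/-- `k` can be reached from `S` by successively adding roots of `S`, all partial sums being roots. -/
inductive Reach (S : Set ι) : ι → Prop
  | base {i : ι} (hi : i ∈ S) : Reach S i
  | step {j i k : ι} (hj : Reach S j) (hi : i ∈ S) (hk : P.root k = P.root j + P.root i) : Reach S k

lemma reach_of_lc [Finite ι] (S : Set ι) : ∀ (n : ℕ) (c : ι →₀ ℤ) (k : ι), (∀ i, 0 ≤ c i) →
    ↑c.support ⊆ S → (c.sum fun _ a => a) = n → lc P c = P.root k → Reach P S k := by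
  classical
  intro n
  induction n with
  | zero =>
    intro c k h0 hS hsum hlc
    exfalso
    have hc : c = 0 := by
      ext i
      by_contra hi
      have hi' : i ∈ c.support := Finsupp.mem_support_iff.2 hi
      have hle : c i ≤ c.sum fun _ a => a :=
        Finset.single_le_sum (f := fun j => c j) (fun j _ => h0 j) hi'
      rw [hsum] at hle
      exact hi (le_antisymm (by simpa using hle) (h0 i))
    rw [hc] at hlc
    simp only [lc, map_zero] at hlc
    exact P.ne_zero k hlc.symm
  | succ n ih =>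
    intro c k h0 hS hsum hlc
    by_cases hkS : k ∈ S
    · exact Reach.base hkS
    · have hk : (1 : ℕ) • P.root k = ∑ l ∈ c.support, (c l).toNat • P.root l := by
        rw [one_smul, ← hlc, lc, Finsupp.linearCombination_apply, Finsupp.sum]
        refine Finset.sum_congr rfl (fun l _ => ?_)
        rw [← natCast_zsmul, Int.toNat_of_nonneg (h0 l)]
      obtain ⟨l, hl, -, -, k', hk'⟩ := exists_sub_mem P c.support id (fun l => (c l).toNat) k
        (fun l hl h => hkS (h ▸ hS hl)) 1 one_pos hk
      simp only [id] at hk'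
      have hcl : 1 ≤ c l := by
        have := Finsupp.mem_support_iff.1 hl
        have := h0 l
        omega
      refine Reach.step (ih (c - Finsupp.single l 1) k' ?_ ?_ ?_ ?_) (hS hl)
        (by rw [hk']; abel)
      · intro i
        simp only [Finsupp.coe_sub, Pi.sub_apply, Finsupp.single_apply]
        split_ifs with h
        · subst h; linarith
        · simpa using h0 i
      · intro i hi
        rcases Finset.mem_union.1 (Finsupp.support_sub hi) with h | h
        · exact hS h
        · have := Finsupp.support_single_subset h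
          simp only [Finset.mem_singleton] at this
          rw [this]; exact hS hl
      · have e : c = (c - Finsupp.single l 1) + Finsupp.single l 1 := by simp
        have hs : (c.sum fun _ a => a) =
            ((c - Finsupp.single l 1).sum fun _ a => a) + ((Finsupp.single l (1 : ℤ)).sum fun _ a => a) := by
          conv_lhs => rw [e]
          exact Finsupp.sum_add_index' (fun _ => rfl) (fun _ _ _ => rfl)
        rw [hsum, Finsupp.sum_single_index rfl] at hs
        push_cast at hs
        linarith
      · simp only [lc, map_sub, Finsupp.linearCombination_single, one_smul]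
        simp only [lc] at hlc
        rw [hlc]
        exact hk'.symm

lemma reach_of_mem_natSpan [Finite ι] {S : Set ι} {k : ι} (h : P.root k ∈ natSpan P S) :
    Reach P S k := by
  obtain ⟨c, h0, hS, hc⟩ := (mem_natSpan_iff P).1 h
  have hn : 0 ≤ c.sum fun _ a => a := Finset.sum_nonneg (fun i _ => h0 i)
  obtain ⟨n, hn⟩ := Int.eq_ofNat_of_zero_le hn
  exact reach_of_lc P S n c k h0 hS hn hc

lemma Reach.mem_natSpan {S : Set ι} {k : ι} (h : Reach P S k) : P.root k ∈ natSpan P S := by
  induction h with
  | base hi => exact root_mem_natSpan P hi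
  | step _ hi hk ih => rw [hk]; exact add_mem ih (root_mem_natSpan P hi)

lemma Reach.mem_of_closed {S : Set ι} (hS : IsClosedSub P S) {k : ι} (h : Reach P S k) : k ∈ S := by
  induction h with
  | base hi => exact hi
  | step _ hi hk ih => exact hS ih hi hk

end chain

section simple

variable {P} {Δ : Set ι}

lemma coeff_unique (hΔ : IsSimpleSys P Δ) {c d : ι →₀ ℤ} (hc : ↑c.support ⊆ Δ)
    (hd : ↑d.support ⊆ Δ) (h : lc P c = lc P d) : c = d := by
  classical
  have hsub : c - d ∈ Finsupp.supported ℤ ℤ Δ := by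
    rw [Finsupp.mem_supported]
    intro j hj
    rcases Finset.mem_union.1 (Finsupp.support_sub hj) with h | h
    · exact hc h
    · exact hd h
  have := linearIndepOn_iff.1 hΔ.linInd (c - d) hsub (by simp only [lc] at h; simp [h])
  exact sub_eq_zero.1 this

lemma exists_coeff (hΔ : IsSimpleSys P Δ) (k : ι) : ∃ c : ι →₀ ℤ, ↑c.support ⊆ Δ ∧
    lc P c = P.root k ∧ ((∀ i, 0 ≤ c i) ∨ (∀ i, c i ≤ 0)) := by
  rcases hΔ.mem_or_neg_mem k with h | h
  · obtain ⟨c, h0, hS, hc⟩ := (mem_natSpan_iff P).1 h
    exact ⟨c, hS, hc, Or.inl h0⟩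
  · obtain ⟨c, h0, hS, hc⟩ := (neg_mem_natSpan_iff P).1 h
    exact ⟨c, hS, hc, Or.inr h0⟩

/-- The coefficient vector of a root with respect to a simple system. -/
noncomputable def coeff (hΔ : IsSimpleSys P Δ) (k : ι) : ι →₀ ℤ := (exists_coeff hΔ k).choose

lemma coeff_supp (hΔ : IsSimpleSys P Δ) (k : ι) : ↑(coeff hΔ k).support ⊆ Δ :=
  (exists_coeff hΔ k).choose_spec.1

lemma lc_coeff (hΔ : IsSimpleSys P Δ) (k : ι) : lc P (coeff hΔ k) = P.root k :=
  (exists_coeff hΔ k).choose_spec.2.1

lemma coeff_sign (hΔ : IsSimpleSys P Δ) (k : ι) :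
    (∀ i, 0 ≤ coeff hΔ k i) ∨ (∀ i, coeff hΔ k i ≤ 0) :=
  (exists_coeff hΔ k).choose_spec.2.2

lemma coeff_eq (hΔ : IsSimpleSys P Δ) {k : ι} {c : ι →₀ ℤ} (hc : ↑c.support ⊆ Δ)
    (h : lc P c = P.root k) : coeff hΔ k = c :=
  coeff_unique hΔ (coeff_supp hΔ k) hc ((lc_coeff hΔ k).trans h.symm)

lemma coeff_ne_zero (hΔ : IsSimpleSys P Δ) (k : ι) : coeff hΔ k ≠ 0 := by
  intro h
  have := lc_coeff hΔ k
  rw [h] at this
  simp only [lc, map_zero] at this
  exact P.ne_zero k this.symm

lemma coeff_apply_eq_zero (hΔ : IsSimpleSys P Δ) (k : ι) {i : ι} (hi : i ∉ Δ) :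
    coeff hΔ k i = 0 := by
  by_contra h
  exact hi (coeff_supp hΔ k (Finsupp.mem_support_iff.2 h))

lemma mem_posOf_iff (hΔ : IsSimpleSys P Δ) {k : ι} : k ∈ posOf P Δ ↔ ∀ i, 0 ≤ coeff hΔ k i := by
  constructor
  · intro h
    obtain ⟨c, h0, hS, hc⟩ := (mem_natSpan_iff P).1 h
    rw [coeff_eq hΔ hS hc]
    exact h0
  · intro h
    exact (mem_natSpan_iff P).2 ⟨_, h, coeff_supp hΔ k, lc_coeff hΔ k⟩

lemma not_mem_posOf_iff (hΔ : IsSimpleSys P Δ) {k : ι} :
    k ∉ posOf P Δ ↔ ∀ i, coeff hΔ k i ≤ 0 := by
  rw [mem_posOf_iff hΔ]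
  constructor
  · intro h
    rcases coeff_sign hΔ k with h' | h'
    · exact absurd h' h
    · exact h'
  · intro h h'
    apply coeff_ne_zero hΔ k
    ext i
    exact le_antisymm (h i) (h' i)

lemma coeff_negIdx (hΔ : IsSimpleSys P Δ) (k : ι) :
    coeff hΔ (P.reflectionPerm k k) = - coeff hΔ k := by
  apply coeff_eq hΔ
  · simpa using coeff_supp hΔ k
  · simp only [lc, map_neg, root_negIdx]
    rw [← lc_coeff hΔ k]

lemma coeff_simple (hΔ : IsSimpleSys P Δ) {i : ι} (hi : i ∈ Δ) :
    coeff hΔ i = Finsupp.single i 1 := by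
  classical
  apply coeff_eq hΔ
  · intro j hj
    have := Finsupp.support_single_subset hj
    simp only [Finset.mem_singleton] at this
    rwa [this]
  · simp [lc]

lemma negIdx_mem_posOf_iff (hΔ : IsSimpleSys P Δ) {k : ι} :
    P.reflectionPerm k k ∈ posOf P Δ ↔ k ∉ posOf P Δ := by
  rw [mem_posOf_iff hΔ, not_mem_posOf_iff hΔ, coeff_negIdx]
  simp

lemma subset_posOf (hΔ : IsSimpleSys P Δ) : Δ ⊆ posOf P Δ :=
  fun _ hi => root_mem_natSpan P hi

lemma pairing_le_zero_of_simple [Finite ι] (hΔ : IsSimpleSys P Δ) {i j : ι} (hi : i ∈ Δ)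
    (hj : j ∈ Δ) (hij : i ≠ j) : P.pairing i j ≤ 0 := by
  classical
  by_contra h
  push Not at h
  obtain ⟨k, hk⟩ := sub_mem_of_pairing_pos P h hij
  have hc : coeff hΔ k = Finsupp.single i 1 - Finsupp.single j 1 := by
    apply coeff_eq hΔ
    · intro l hl
      rcases Finset.mem_union.1 (Finsupp.support_sub hl) with h | h
      · have := Finsupp.support_single_subset h
        simp only [Finset.mem_singleton] at this
        rwa [this]
      · have := Finsupp.support_single_subset h
        simp only [Finset.mem_singleton] at this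
        rwa [this]
    · simp [lc, hk]
  rcases coeff_sign hΔ k with h' | h'
  · have := h' j
    rw [hc] at this
    simp [Finsupp.single_apply, hij] at this
  · have := h' i
    rw [hc] at this
    simp [Finsupp.single_apply, hij.symm] at this

lemma coeff_reflectionPerm (hΔ : IsSimpleSys P Δ) {i : ι} (hi : i ∈ Δ) (k : ι) :
    coeff hΔ (P.reflectionPerm i k) = coeff hΔ k - Finsupp.single i (P.pairing k i) := by
  classical
  apply coeff_eq hΔ
  · intro l hl
    rcases Finset.mem_union.1 (Finsupp.support_sub hl) with h | h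
    · exact coeff_supp hΔ k h
    · have := Finsupp.support_single_subset h
      simp only [Finset.mem_singleton] at this
      rwa [this]
  · simp only [lc, map_sub, Finsupp.linearCombination_single]
    rw [P.root_reflectionPerm, P.reflection_apply_root]
    congr 1
    exact lc_coeff hΔ k

lemma reflectionPerm_mem_posOf (hΔ : IsSimpleSys P Δ) {k i : ι} (hk : k ∈ posOf P Δ)
    (hi : i ∈ Δ) (h : ∃ j, j ≠ i ∧ coeff hΔ k j ≠ 0) : P.reflectionPerm i k ∈ posOf P Δ := by
  classical
  obtain ⟨j, hji, hj⟩ := h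
  by_contra hneg
  have h1 := (not_mem_posOf_iff hΔ).1 hneg j
  rw [coeff_reflectionPerm hΔ hi] at h1
  simp only [Finsupp.coe_sub, Pi.sub_apply, Finsupp.single_apply, if_neg hji.symm, sub_zero] at h1
  have h2 := (mem_posOf_iff hΔ).1 hk j
  exact hj (le_antisymm h1 h2)

lemma exists_coeff_ne_of_linearIndependent (hΔ : IsSimpleSys P Δ) {k i : ι}
    (hli : LinearIndependent ℤ ![P.root k, P.root i]) : ∃ j, j ≠ i ∧ coeff hΔ k j ≠ 0 := by
  classical
  by_contra h
  push Not at h
  have hc : coeff hΔ k = Finsupp.single i (coeff hΔ k i) := by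
    ext j
    by_cases hj : j = i
    · subst hj; simp
    · rw [h j hj, Finsupp.single_apply, if_neg (Ne.symm hj)]
  have hk := lc_coeff hΔ k
  rw [hc] at hk
  simp only [lc, Finsupp.linearCombination_single] at hk
  rw [LinearIndependent.pair_iff] at hli
  have := hli 1 (- coeff hΔ k i) (by rw [one_smul, neg_smul, hk]; abel)
  exact one_ne_zero this.1

end simple

end Groth.Agent.H23.RD
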