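import Groth.Agent.H23.RootD.Basic
import Mathlib.Analysis.Matrix.PosDef
import Mathlib.LinearAlgebra.Matrix.ToLinearEquiv
import Mathlib.Algebra.Order.Star.Real

/-! Positivity of the determinant of the Cartan matrix of linearly independent roots. -/

set_option autoImplicit false

namespace Groth.Agent.H23.RD

open RootD Set

variable {ι M N : Type*} [AddCommGroup M] [AddCommGroup N] {P : RootPairing ι ℤ M N}

theorem cartan_det_pos [Finite ι] {n : Type*} [Fintype n] [DecidableEq n] (r : n → ι)
    (hli : LinearIndependent ℤ (fun a => P.root (r a))) :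
    0 < Matrix.det (Matrix.of fun (a b : n) => P.pairing (r b) (r a)) := by
  classical
  have := Fintype.ofFinite ι
  let C : Matrix n ι ℤ := Matrix.of fun a l => P.pairing (r a) l
  let G : Matrix n n ℤ := C * C.transpose
  have hG : ∀ a b, G a b = P.RootForm (P.root (r a)) (P.root (r b)) := by
    intro a b
    rw [P.rootForm_apply_apply]
    simp [G, C, Matrix.mul_apply, P.root_coroot'_eq_pairing]
  have hdet0 : 0 ≤ G.det := by
    have h1 : ((Int.castRingHom ℝ).mapMatrix G) =
        (C.map (Int.castRingHom ℝ)) * (C.map (Int.castRingHom ℝ)).conjTranspose := by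
      rw [RingHom.mapMatrix_apply, Matrix.conjTranspose_eq_transpose_of_trivial,
        ← Matrix.transpose_map]
      exact Matrix.map_mul
    have h2 := (Matrix.posSemidef_self_mul_conjTranspose (C.map (Int.castRingHom ℝ))).det_nonneg
    rw [← h1, ← RingHom.map_det] at h2
    simp only [eq_intCast] at h2
    exact_mod_cast h2
  have hdetne : G.det ≠ 0 := by
    intro h0
    obtain ⟨v, hv, hGv⟩ := Matrix.exists_mulVec_eq_zero_iff.2 h0
    obtain ⟨x, hx⟩ : ∃ x : M, x = ∑ b, v b • P.root (r b) := ⟨_, rfl⟩
    have h1 : ∀ a, P.RootForm (P.root (r a)) x = 0 := by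
      intro a
      have := congrFun hGv a
      simp only [Matrix.mulVec, dotProduct, Pi.zero_apply] at this
      rw [hx, map_sum]
      simp_rw [map_smul, smul_eq_mul, ← hG, mul_comm (v _)]
      exact this
    have h2 : P.RootForm x x = 0 := by
      have : P.RootForm x x = ∑ b, v b * P.RootForm (P.root (r b)) x := by
        calc P.RootForm x x = P.RootForm (∑ b, v b • P.root (r b)) x := by rw [← hx]
          _ = ∑ b, v b * P.RootForm (P.root (r b)) x := by
            rw [map_sum, LinearMap.sum_apply]
            simp
      rw [this]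
      simp [h1]
    have hxmem : x ∈ P.rootSpan ℤ := by
      rw [hx]
      exact sum_mem (fun b _ => Submodule.smul_mem _ _ (root_mem_rootSpan P _))
    have hx0 : x = 0 := by
      by_contra hne
      have := P.rootForm_pos_of_ne_zero hxmem hne
      linarith
    exact hv (funext (Fintype.linearIndependent_iff.1 hli v (hx ▸ hx0)))
  have hdetpos : 0 < G.det := lt_of_le_of_ne hdet0 (Ne.symm hdetne)
  let A : Matrix n n ℤ := Matrix.of fun a b => P.pairing (r b) (r a)
  let D : Matrix n n ℤ := Matrix.diagonal fun a => G a a
  have hDA : D * A = (2 : ℤ) • G := by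
    ext a b
    simp only [D, A, Matrix.diagonal_mul, Matrix.of_apply, Matrix.smul_apply, smul_eq_mul]
    rw [hG, hG, rootForm_comm P (P.root (r a)) (P.root (r b)), two_mul_rootForm]
    ring
  have hdet : D.det * A.det = 2 ^ Fintype.card n * G.det := by
    rw [← Matrix.det_mul, hDA, Matrix.det_smul]
  have hDpos : 0 < D.det := by
    rw [Matrix.det_diagonal]
    exact Finset.prod_pos (fun a _ => by rw [hG]; exact rootForm_root_pos P _)
  have hpos : 0 < D.det * A.det := by rw [hdet]; positivity
  exact (mul_pos_iff_of_pos_left hDpos).1 hpos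

end Groth.Agent.H23.RD
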