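import Groth.Agent.H23.RootD.Words

/-! Dominant vectors: `x - w x` is a non-negative combination of simple roots. -/

set_option autoImplicit false

namespace Groth.Agent.H23.RD

open RootD Set RootPairing

variable {ι M N : Type*} [AddCommGroup M] [AddCommGroup N] {P : RootPairing ι ℤ M N} {Δ : Set ι}

/-- Deletion condition, remembering that the new word is a sublist. -/
lemma deletion_sublist [Finite ι] (hΔ : IsSimpleSys P Δ) {i : ι} (hi : i ∈ Δ) :
    ∀ L : List ι, (∀ a ∈ L, a ∈ Δ) → wprod P L • i ∉ posOf P Δ →
    ∃ L' : List ι, L'.Sublist L ∧ L'.length < L.length ∧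
      wprod P L * Equiv.reflection P i = wprod P L' := by
  intro L
  induction L with
  | nil =>
    intro _ h
    exact absurd (subset_posOf hΔ hi) (by simpa using h)
  | cons a L ih =>
    intro hL hneg
    have ha : a ∈ Δ := hL a (by simp)
    have hL' : ∀ b ∈ L, b ∈ Δ := fun b hb => hL b (by simp [hb])
    by_cases hk : wprod P L • i ∈ posOf P Δ
    · rw [wprod_cons, mul_smul, reflection_smul_idx] at hneg
      obtain ⟨t, ht⟩ := root_eq_zsmul_of_reflection_neg hΔ hk ha hneg
      have h1 : Equiv.reflection P (wprod P L • i) = Equiv.reflection P a :=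
        aut_reflection_eq_of_root_eq_zsmul ht
      refine ⟨L, List.sublist_cons_self a L, by simp, ?_⟩
      rw [wprod_cons, ← h1, ← mul_reflection, mul_assoc, refl_mul_self, mul_one]
    · obtain ⟨L'', hL'', hlen, heq⟩ := ih hL' hk
      refine ⟨a :: L'', hL''.cons₂ a, by simpa using hlen, ?_⟩
      rw [wprod_cons, wprod_cons, mul_assoc, heq]

/-- If `x` is dominant for the simple roots in `T ⊆ Δ`, then for every `w` in the group generated
by the reflections of `T`, `x - w x` is a non-negative combination of `T`, vanishing only if `w` is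
a product of reflections fixing `x`. -/
theorem dominance [Finite ι] (hΔ : IsSimpleSys P Δ) {T : Set ι} (hT : T ⊆ Δ) (x : M)
    (hdom : ∀ l ∈ T, 0 ≤ P.coroot' l x) : ∀ n : ℕ, ∀ L : List ι, L.length = n →
    (∀ a ∈ L, a ∈ T) → ∃ d : ι →₀ ℤ, (∀ l, 0 ≤ d l) ∧ ↑d.support ⊆ T ∧
      lc P d = x - wprod P L • x ∧
      (d = 0 → wprod P L ∈ Subgroup.closure
        ((fun i : ι => Equiv.reflection P i) '' {l | l ∈ T ∧ P.coroot' l x = 0})) := by
  classical
  intro n
  induction n using Nat.strong_induction_on with
  | _ n ih =>
    intro L hn hL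
    rcases List.eq_nil_or_concat L with rfl | ⟨L0, l, hLeq⟩
    · exact ⟨0, fun _ => le_rfl, by simp, by simp [lc], fun _ => one_mem _⟩
    · rw [List.concat_eq_append] at hLeq
      subst hLeq
      have hl : l ∈ T := hL l (by simp)
      have hL0 : ∀ a ∈ L0, a ∈ T := fun a ha => hL a (by simp [ha])
      have hw : wprod P (L0 ++ [l]) = wprod P L0 * Equiv.reflection P l := by
        rw [wprod_append]; simp
      have hlen : L0.length < n := by
        simp only [List.length_append, List.length_cons, List.length_nil] at hn
        omega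
      by_cases hpos : wprod P L0 • l ∈ posOf P Δ
      · obtain ⟨d0, hd0, hd0S, hd0lc, hd0z⟩ := ih L0.length hlen L0 rfl hL0
        set p : ℤ := P.coroot' l x with hp
        have hp0 : 0 ≤ p := hdom l hl
        have hco0 := (mem_posOf_iff hΔ).1 hpos
        have hcoS : (↑(coeff hΔ (wprod P L0 • l)).support : Set ι) ⊆ T := by
          rw [← mem_inSpan_iff hΔ hT]
          show P.root (wprod P L0 • l) ∈ Submodule.span ℤ (P.root '' T)
          have h1 := smul_sub_mem_span_of_mem_closure (P := P) (wprod_mem_closure (P := P) hL0) (P.root l)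
          have h2 : P.root l ∈ Submodule.span ℤ (P.root '' T) :=
            Submodule.subset_span ⟨l, hl, rfl⟩
          rw [root_smul]
          have := add_mem h1 h2
          rwa [sub_add_cancel] at this
        refine ⟨d0 + p • coeff hΔ (wprod P L0 • l), ?_, ?_, ?_, ?_⟩
        · intro l'
          simp only [Finsupp.coe_add, Finsupp.coe_smul, Pi.add_apply, Pi.smul_apply, smul_eq_mul]
          exact add_nonneg (hd0 l') (mul_nonneg hp0 (hco0 l'))
        · intro l' hl'
          rcases Finset.mem_union.1 (Finsupp.support_add hl') with h | h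
          · exact hd0S h
          · exact hcoS (Finsupp.support_smul h)
        · have h1 := lc_coeff hΔ (wprod P L0 • l)
          unfold lc at h1 hd0lc ⊢
          rw [map_add, map_smul, h1, hd0lc, hw, mul_smul, Equiv.reflection_smul,
            P.reflection_apply, smul_sub, root_smul, smul_comm (wprod P L0)]
          abel
        · intro hz
          have hboth : ∀ l', d0 l' = 0 ∧ p * coeff hΔ (wprod P L0 • l) l' = 0 := by
            intro l'
            have h1 := DFunLike.congr_fun hz l'
            simp only [Finsupp.coe_add, Finsupp.coe_smul, Pi.add_apply, Pi.smul_apply,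
              smul_eq_mul, Finsupp.coe_zero, Pi.zero_apply] at h1
            have h2 := hd0 l'
            have h3 := mul_nonneg hp0 (hco0 l')
            constructor <;> linarith
          have hd00 : d0 = 0 := Finsupp.ext (fun l' => (hboth l').1)
          obtain ⟨l', hl'⟩ : ∃ l', coeff hΔ (wprod P L0 • l) l' ≠ 0 := by
            by_contra hcon
            push Not at hcon
            exact coeff_ne_zero hΔ _ (Finsupp.ext hcon)
          have hp00 : p = 0 := (mul_eq_zero.1 (hboth l').2).resolve_right hl'
          rw [hw]
          exact mul_mem (hd0z hd00) (Subgroup.subset_closure ⟨l, ⟨hl, hp00⟩, rfl⟩)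
      · obtain ⟨L', hsub, hlen', heq⟩ := deletion_sublist hΔ (hT hl) L0
          (fun a ha => hT (hL0 a ha)) hpos
        have hwL' : wprod P (L0 ++ [l]) = wprod P L' := by rw [hw, heq]
        rw [hwL']
        exact ih L'.length (by omega) L' rfl (fun a ha => hL0 a (hsub.subset ha))

end Groth.Agent.H23.RD
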