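import Groth.Agent.H23.RootD.Words
import Groth.Agent.H23.RootD.Cartan

/-! The dual simple system `ind(Δ^∨)`. -/

set_option autoImplicit false

namespace Groth.Agent.H23.RD

open RootD Set RootPairing

variable {ι M N : Type*} [AddCommGroup M] [AddCommGroup N] {P : RootPairing ι ℤ M N}

/-- Linear independence of roots implies linear independence of the corresponding coroots. -/
theorem linearIndepOn_coroot_of_root [Finite ι] {T : Set ι} (h : LinearIndepOn ℤ P.root T) :
    LinearIndepOn ℤ P.coroot T := by
  classical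
  rw [linearIndepOn_iff]
  intro l hl h0
  rw [Finsupp.mem_supported] at hl
  by_contra hne
  have hli : LinearIndepOn ℤ P.root (↑l.support : Set ι) := h.mono hl
  have hli' : LinearIndependent ℤ (fun a : ↥l.support => P.root (a : ι)) := hli
  have hdet := cartan_det_pos (P := P) (fun a : ↥l.support => (a : ι)) hli'
  set A : Matrix ↥l.support ↥l.support ℤ :=
    Matrix.of fun (a b : ↥l.support) => P.pairing (b : ι) (a : ι) with hA
  have hv : (fun a : ↥l.support => l (a : ι)) ≠ 0 := by
    intro hv0
    apply hne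
    ext b
    by_cases hb : b ∈ l.support
    · exact congrFun hv0 ⟨b, hb⟩
    · simpa using hb
  have hmul : A.transpose.mulVec (fun a : ↥l.support => l (a : ι)) = 0 := by
    funext a
    simp only [Matrix.mulVec, dotProduct, Matrix.transpose_apply, hA, Matrix.of_apply,
      Pi.zero_apply]
    have h1 := congrArg (P.root' (a : ι)) h0
    rw [Finsupp.linearCombination_apply, Finsupp.sum, map_sum, map_zero] at h1
    rw [← Finset.sum_coe_sort] at h1
    rw [← h1]
    apply Finset.sum_congr rfl
    intro b _
    simp [mul_comm]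
  have hdet0 : A.transpose.det = 0 := Matrix.exists_mulVec_eq_zero_iff.1 ⟨_, hv, hmul⟩
  rw [Matrix.det_transpose] at hdet0
  exact hdet.ne' hdet0

/-- The dual simple system `ind(Δ^∨)`, as a set of indices. -/
def indDual (P : RootPairing ι ℤ M N) (Δ : Set ι) : Set ι :=
  {j : ι | ∃ i ∈ Δ, (j = i ∧ IsIndiv P.flip i) ∨ (2 : ℤ) • P.coroot j = P.coroot i}

variable {Δ : Set ι}

lemma mem_indDual_data [Finite ι] {j : ι} (hj : j ∈ indDual P Δ) :
    ∃ i ∈ Δ, ∃ m : ℤ, (m = 1 ∨ m = 2) ∧ P.root j = m • P.root i ∧ P.coroot i = m • P.coroot j ∧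
      (m = 1 → j = i ∧ IsIndiv P.flip i) := by
  have : Module.IsReflexive ℤ M := .of_isPerfPair P.toLinearMap
  have : Module.IsReflexive ℤ N := .of_isPerfPair P.flip.toLinearMap
  have : IsAddTorsionFree M := .of_isTorsionFree ℤ M
  have : IsAddTorsionFree N := .of_isTorsionFree ℤ N
  obtain ⟨i, hi, h⟩ := hj
  rcases h with ⟨rfl, hind⟩ | h2
  · exact ⟨j, hi, 1, Or.inl rfl, by simp, by simp, fun _ => ⟨rfl, hind⟩⟩
  · refine ⟨i, hi, 2, Or.inr rfl, ?_, h2.symm, fun h => by omega⟩
    exact (coroot_eq_smul_coroot_iff (P := P)).1 h2.symm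

lemma indDual_pairing [Finite ι] (hΔ : IsSimpleSys P Δ) {j j' : ι} (hj : j ∈ indDual P Δ)
    (hj' : j' ∈ indDual P Δ) (hne : j ≠ j') : P.pairing j j' ≤ 0 := by
  obtain ⟨i, hi, m, hm, hr, hc, h1⟩ := mem_indDual_data hj
  obtain ⟨i', hi', m', hm', hr', hc', h1'⟩ := mem_indDual_data hj'
  have hii' : i ≠ i' := by
    rintro rfl
    apply hne
    rcases hm with rfl | rfl <;> rcases hm' with rfl | rfl
    · rw [(h1 rfl).1, (h1' rfl).1]
    · exact absurd hc'.symm ((h1 rfl).2 j')
    · exact absurd hc.symm ((h1' rfl).2 j)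
    · apply P.root.injective
      rw [hr, hr']
  have e1 : P.pairing j i' = m * P.pairing i i' := pairing_of_root_eq_zsmul P hr i'
  have e2 : P.pairing j i' = m' * P.pairing j j' := by
    have := pairing_of_root_eq_zsmul P.flip (i := j') (j := i') (n := m') hc' j
    simpa using this
  have hle := pairing_le_zero_of_simple hΔ hi hi' hii'
  have hmpos : 0 < m := by rcases hm with rfl | rfl <;> norm_num
  have hm'pos : 0 < m' := by rcases hm' with rfl | rfl <;> norm_num
  by_contra hcon
  push Not at hcon
  have : 0 < m' * P.pairing j j' := mul_pos hm'pos hcon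
  have : m * P.pairing i i' ≤ 0 := mul_nonpos_of_nonneg_of_nonpos hmpos.le hle
  linarith

lemma indDual_subset_posOf [Finite ι] : indDual P Δ ⊆ posOf P Δ := by
  intro j hj
  obtain ⟨i, hi, m, hm, hr, -, -⟩ := mem_indDual_data hj
  show P.root j ∈ natSpan P Δ
  rw [hr]
  rcases hm with rfl | rfl
  · rw [one_smul]; exact root_mem_natSpan P hi
  · rw [two_smul]; exact add_mem (root_mem_natSpan P hi) (root_mem_natSpan P hi)

lemma coroot_simple_mem [Finite ι] {i : ι} (hi : i ∈ Δ) :
    P.coroot i ∈ natSpan P.flip (indDual P Δ) := by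
  by_cases hind : IsIndiv P.flip i
  · exact AddSubmonoid.subset_closure ⟨i, ⟨i, hi, Or.inl ⟨rfl, hind⟩⟩, rfl⟩
  · unfold IsIndiv at hind
    push Not at hind
    obtain ⟨k, hk⟩ := hind
    have hk' : (2 : ℤ) • P.coroot k = P.coroot i := hk
    have hkT : k ∈ indDual P Δ := ⟨i, hi, Or.inr hk'⟩
    have hmem : P.coroot k ∈ natSpan P.flip (indDual P Δ) :=
      AddSubmonoid.subset_closure ⟨k, hkT, rfl⟩
    rw [← hk', two_smul]
    exact add_mem hmem hmem

lemma coroot_step [Finite ι] {i k : ι} (hi : i ∈ Δ) (hp : 0 < P.pairing k i)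
    (h : P.coroot (P.reflectionPerm i k) ∈ natSpan P.flip (indDual P Δ)) :
    P.coroot k ∈ natSpan P.flip (indDual P Δ) := by
  have h1 : P.coroot k = P.coroot (P.reflectionPerm i k) + P.pairing i k • P.coroot i := by
    rw [P.coroot_reflectionPerm, P.coreflection_apply]
    simp only [RootPairing.root', LinearMap.flip_apply, RootPairing.root_coroot_eq_pairing]
    abel
  have hp' : 0 < P.pairing i k := (pairing_pos_iff P).1 hp
  rw [h1]
  refine add_mem h ?_
  obtain ⟨n, hn⟩ := Int.eq_ofNat_of_zero_le hp'.le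
  rw [hn, natCast_zsmul]
  exact nsmul_mem (coroot_simple_mem hi) n

lemma coroot_mem_of_pos [Finite ι] (hΔ : IsSimpleSys P Δ) : ∀ n : ℕ, ∀ k ∈ posOf P Δ,
    ((coeff hΔ k).sum fun _ a => a) = (n : ℤ) → P.coroot k ∈ natSpan P.flip (indDual P Δ) := by
  classical
  have : Module.IsReflexive ℤ M := .of_isPerfPair P.toLinearMap
  have : Module.IsReflexive ℤ N := .of_isPerfPair P.flip.toLinearMap
  have : IsAddTorsionFree M := .of_isTorsionFree ℤ M
  have : IsAddTorsionFree N := .of_isTorsionFree ℤ N
  intro n
  induction n using Nat.strong_induction_on with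
  | _ n ih =>
    intro k hk hn
    -- the descent step, for a simple root `i` with `(k, i^∨) > 0` and `s_i k` positive
    have descent : ∀ i ∈ Δ, 0 < P.pairing k i → P.reflectionPerm i k ∈ posOf P Δ →
        P.coroot k ∈ natSpan P.flip (indDual P Δ) := by
      intro i hi hp hpos
      have hco := coeff_reflectionPerm hΔ hi k
      have hsum : ((coeff hΔ (P.reflectionPerm i k)).sum fun _ a => a) =
          (n : ℤ) - P.pairing k i := by
        rw [hco, Finsupp.sum_sub_index (fun _ _ _ => rfl), hn, Finsupp.sum_single_index rfl]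
      have hpos' := height_pos hΔ hpos
      obtain ⟨m, hm⟩ := Int.eq_ofNat_of_zero_le hpos'.le
      have hlt : m < n := by
        have : (m : ℤ) < n := by rw [← hm, hsum]; linarith
        exact_mod_cast this
      exact coroot_step hi hp (ih m hlt _ hpos hm)
    by_cases hkΔ : k ∈ Δ
    · exact coroot_simple_mem hkΔ
    by_cases hind : IsIndiv P k
    · obtain ⟨i, hi, hp, hpos⟩ := Groth.Agent.S5467.result P Δ hΔ k hk hkΔ hind
      exact descent i hi hp hpos
    · unfold IsIndiv at hind
      push Not at hind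
      obtain ⟨k', hk'⟩ := hind
      have hk'co : coeff hΔ k = (2 : ℤ) • coeff hΔ k' := by
        apply coeff_eq hΔ
        · intro l hl
          apply coeff_supp hΔ k'
          rw [Finset.mem_coe, Finsupp.mem_support_iff] at hl ⊢
          intro h0
          apply hl
          simp [h0]
        · have := lc_coeff hΔ k'
          unfold lc at this ⊢
          rw [map_smul, this, hk']
      have hk'pos : k' ∈ posOf P Δ := by
        rw [mem_posOf_iff hΔ]
        intro l
        have := (mem_posOf_iff hΔ).1 hk l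
        rw [hk'co] at this
        simp only [Finsupp.coe_smul, Pi.smul_apply, smul_eq_mul] at this
        linarith
      by_cases hk'Δ : k' ∈ Δ
      · -- `k = 2 k'` with `k'` simple: `k` belongs to the dual system
        have h2 : (2 : ℤ) • P.coroot k = P.coroot k' :=
          ((coroot_eq_smul_coroot_iff (P := P)).2 hk'.symm).symm
        exact AddSubmonoid.subset_closure ⟨k, ⟨k', hk'Δ, Or.inr h2⟩, rfl⟩
      · have hk'ind : IsIndiv P k' := by
          intro l hl
          have h4 : P.root k = (4 : ℤ) • P.root l := by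
            rw [← hk', ← hl, smul_smul]; norm_num
          have := int_of_root_eq_zsmul P h4
          omega
        obtain ⟨i, hi, hp, hpos⟩ := Groth.Agent.S5467.result P Δ hΔ k' hk'pos hk'Δ hk'ind
        have hpk : P.pairing k i = 2 * P.pairing k' i := pairing_of_root_eq_zsmul P hk'.symm i
        apply descent i hi (by rw [hpk]; linarith)
        show P.root (P.reflectionPerm i k) ∈ natSpan P Δ
        have : P.root (P.reflectionPerm i k) = (2 : ℤ) • P.root (P.reflectionPerm i k') := by
          rw [P.root_reflectionPerm, P.root_reflectionPerm, ← hk', map_smul]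
        rw [this, two_smul]
        exact add_mem hpos hpos

/-- `ind(Δ^∨)` is a system of simple roots of the dual datum. -/
theorem isSimpleSys_flip_indDual [Finite ι] (hΔ : IsSimpleSys P Δ) :
    IsSimpleSys P.flip (indDual P Δ) := by
  classical
  have hroot : LinearIndepOn ℤ P.root (indDual P Δ) := by
    apply linearIndepOn_of_obtuse_of_pointed
    · intro j hj j' hj' hne
      exact indDual_pairing hΔ hj hj' hne
    · intro c h0 hcS hc
      exact ps_pointed (isPosSys_posOf hΔ) h0 (hcS.trans indDual_subset_posOf) hc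
  refine ⟨linearIndepOn_coroot_of_root hroot, fun k => ?_⟩
  show P.coroot k ∈ natSpan P.flip (indDual P Δ) ∨ -P.coroot k ∈ natSpan P.flip (indDual P Δ)
  by_cases hk : k ∈ posOf P Δ
  · left
    obtain ⟨m, hm⟩ := Int.eq_ofNat_of_zero_le (height_pos hΔ hk).le
    exact coroot_mem_of_pos hΔ m k hk hm
  · right
    have hk' := (negIdx_mem_posOf_iff hΔ).2 hk
    obtain ⟨m, hm⟩ := Int.eq_ofNat_of_zero_le (height_pos hΔ hk').le
    have := coroot_mem_of_pos hΔ m _ hk' hm
    have h2 : P.coroot (P.reflectionPerm k k) = -P.coroot k := root_negIdx P.flip k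
    rwa [h2] at this

end Groth.Agent.H23.RD
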