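import Groth.Agent.H23.RootD.Rank2

/-! An indivisible root belongs to some system of simple roots. -/

set_option autoImplicit false

namespace Groth.Agent.H23.RD

open RootD Set

variable {ι M N : Type*} [AddCommGroup M] [AddCommGroup N] {P : RootPairing ι ℤ M N}

lemma natSpan_subset_span (S : Set ι) :
    (natSpan P S : Set M) ⊆ Submodule.span ℤ (P.root '' S) := by
  intro x hx
  have : natSpan P S ≤ (Submodule.span ℤ (P.root '' S)).toAddSubmonoid :=
    AddSubmonoid.closure_le.2 Submodule.subset_span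
  exact this hx

lemma root_mem_span_simple {Δ : Set ι} (hΔ : IsSimpleSys P Δ) (k : ι) :
    P.root k ∈ Submodule.span ℤ (P.root '' Δ) := by
  rcases hΔ.mem_or_neg_mem k with h | h
  · exact natSpan_subset_span Δ h
  · have := natSpan_subset_span Δ h
    simpa using (Submodule.span ℤ (P.root '' Δ)).neg_mem this

lemma span_simple_eq {Δ : Set ι} (hΔ : IsSimpleSys P Δ) :
    Submodule.span ℤ (P.root '' Δ) = Submodule.span ℤ (Set.range P.root) := by
  apply le_antisymm
  · exact Submodule.span_mono (Set.image_subset_range _ _)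
  · apply Submodule.span_le.2
    rintro _ ⟨k, rfl⟩
    exact root_mem_span_simple hΔ k

/-- An indivisible root is a simple root of some system of positive roots. -/
theorem exists_posSys_simple_of_indiv [Finite ι] {i : ι} (hα : IsIndiv P i) :
    ∃ S : Set ι, IsPosSys P S ∧ i ∈ simpleOf P S := by
  classical
  set V1 : Submodule ℤ M := Submodule.span ℤ {P.root i} with hV1
  obtain ⟨f1, hf1⟩ := exists_hom_vanishing_exactly (P := P) _ (ratIn_saturated V1)
  have hiV1 : i ∈ ratIn P V1 :=
    ⟨1, one_pos, by rw [one_smul]; exact Submodule.subset_span (by simp)⟩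
  obtain ⟨f2', hf2'⟩ := exists_hom_nonvanishing P
  obtain ⟨f2, hf2i, hf2⟩ := exists_hom_pos f2' (P.root i) (hf2' i)
  obtain ⟨φ, hφ⟩ := exists_lex (P := P) f1 f2
  have hφ0 : ∀ l, φ (P.root l) ≠ 0 := by
    intro l h
    have := ((hφ l).2.1 h).2
    exact hf2' l ((hf2 _).1 this)
  have hS := isPosSys_of_homQ (P := P) φ hφ0
  set S : Set ι := {l : ι | 0 < φ (P.root l)} with hSdef
  have hf1S : ∀ l ∈ S, 0 ≤ f1 (P.root l) := by
    intro l hl
    rcases (hφ l).1.1 hl with h | ⟨h, _⟩
    · exact h.le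
    · exact h.ge
  have hf1i : f1 (P.root i) = 0 := (hf1 i).2 hiV1
  have hiS : i ∈ S := (hφ i).1.2 (Or.inr ⟨hf1i, hf2i⟩)
  have hprop : ∀ j ∈ S, f1 (P.root j) = 0 →
      P.root j = P.root i ∨ P.root j = (2 : ℤ) • P.root i := by
    intro j hj hj0
    have hjV1 : j ∈ ratIn P V1 := (hf1 j).1 hj0
    obtain ⟨t, ht, hjt⟩ := root_eq_zsmul_of_indiv hα hjV1
    have hf2j : 0 < f2 (P.root j) := by
      rcases (hφ j).1.1 hj with h | ⟨_, h⟩
      · exact absurd hj0 h.ne'
      · exact h
    rw [hjt, map_zsmul, zsmul_eq_mul] at hf2j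
    have htpos : 0 < (t : ℚ) := by
      by_contra hneg
      push Not at hneg
      nlinarith
    have htpos' : 0 < t := by exact_mod_cast htpos
    rcases ht with rfl | rfl | rfl | rfl
    · left; rw [hjt, one_smul]
    · omega
    · right; exact hjt
    · omega
  refine ⟨S, hS, ?_⟩
  apply face_simple f1 hf1S hiS hf1i
  intro j hj hj0 l hl hl0 h
  have key : ∀ s : ℤ, 0 < s → s • P.root i ≠ 0 := by
    intro s hs h0
    have : s • P.root i = s • 0 := by rw [h0, smul_zero]
    exact P.ne_zero i (zsmul_inj P hs.ne' this)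
  rcases hprop j hj hj0 with h1 | h1 <;> rcases hprop l hl hl0 with h2 | h2
  · apply key 1 one_pos
    rw [h1, h2] at h
    rw [one_smul]
    exact (left_eq_add.1 h)
  · apply key 2 (by norm_num)
    rw [h1, h2] at h
    exact (left_eq_add.1 h)
  · apply key 2 (by norm_num)
    rw [h1, h2, add_comm] at h
    exact (left_eq_add.1 h)
  · apply key 3 (by norm_num)
    rw [h1, h2] at h
    have : (3 : ℤ) • P.root i = ((2 : ℤ) • P.root i + (2 : ℤ) • P.root i) - P.root i := by
      module
    rw [this, ← h, sub_self]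

theorem exists_simpleSys_mem_of_indiv [Finite ι] {i : ι} (hα : IsIndiv P i) :
    ∃ Δ : Set ι, IsSimpleSys P Δ ∧ i ∈ Δ := by
  obtain ⟨S, hS, hi⟩ := exists_posSys_simple_of_indiv hα
  exact ⟨simpleOf P S, ps_isSimpleSys_simpleOf hS, hi⟩

end Groth.Agent.H23.RD
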