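import Groth.Agent.H23.RootD.PosSys

/-! Roots in the span of part of a simple system. -/

set_option autoImplicit false

namespace Groth.Agent.H23.RD

open RootD Set

variable {ι M N : Type*} [AddCommGroup M] [AddCommGroup N] {P : RootPairing ι ℤ M N}

lemma mem_span_iff_lc {S : Set ι} {x : M} :
    x ∈ Submodule.span ℤ (P.root '' S) ↔ ∃ c : ι →₀ ℤ, ↑c.support ⊆ S ∧ lc P c = x := by
  rw [Finsupp.mem_span_image_iff_linearCombination]
  simp only [Finsupp.mem_supported, lc, exists_prop]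

variable {Δ : Set ι}

lemma mem_inSpan_iff (hΔ : IsSimpleSys P Δ) {Δ' : Set ι} (hsub : Δ' ⊆ Δ) {k : ι} :
    k ∈ inSpan P Δ' ↔ ↑(coeff hΔ k).support ⊆ Δ' := by
  unfold inSpan
  rw [Set.mem_ofPred_eq, mem_span_iff_lc]
  constructor
  · rintro ⟨c, hc, hck⟩
    rwa [coeff_eq hΔ (hc.trans hsub) hck]
  · intro h
    exact ⟨_, h, lc_coeff hΔ k⟩

lemma negIdx_mem_inSpan_iff {S : Set ι} {k : ι} :
    P.reflectionPerm k k ∈ inSpan P S ↔ k ∈ inSpan P S := by
  unfold inSpan
  simp only [Set.mem_ofPred_eq, root_negIdx, neg_mem_iff]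

/-- every root is, up to sign, reachable from the simple roots -/
lemma reach_or_reach_neg [Finite ι] (hΔ : IsSimpleSys P Δ) (k : ι) :
    Reach P Δ k ∨ Reach P Δ (P.reflectionPerm k k) := by
  rcases hΔ.mem_or_neg_mem k with h | h
  · exact Or.inl (reach_of_mem_natSpan P h)
  · right
    apply reach_of_mem_natSpan P
    rwa [root_negIdx]

end Groth.Agent.H23.RD
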