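import Groth.Agent.H23.RootD.Words
import Groth.Agent.S5483
import Groth.Agent.S5494
import Groth.Agent.S5497

/-! Irreducible root data: chains of non-orthogonal roots. -/

set_option autoImplicit false

namespace Groth.Agent.H23.RD

open RootD Set RootPairing

variable {ι M N : Type*} [AddCommGroup M] [AddCommGroup N] {P : RootPairing ι ℤ M N}

/-- Irreducibility in the sense of partitions into closed symmetric subsets. -/
def Irr (P : RootPairing ι ℤ M N) : Prop :=
  ∀ R' : Set ι, IsClosedSub P R' → IsSymmSub P R' → IsClosedSub P R'ᶜ → IsSymmSub P R'ᶜ →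
    R' = ∅ ∨ R' = Set.univ

lemma isClosedSub_inSpan (T : Set ι) : IsClosedSub P (inSpan P T) := by
  intro i j k hi hj hk
  show P.root k ∈ Submodule.span ℤ (P.root '' T)
  rw [hk]
  exact add_mem hi hj

lemma isSymmSub_inSpan (T : Set ι) : IsSymmSub P (inSpan P T) :=
  fun _ hi => negIdx_mem_inSpan_iff.2 hi

lemma conn_of_irr [Finite ι] (hirr : Irr P) {Δ : Set ι} (hΔ : IsSimpleSys P Δ) :
    ∀ Δ' : Set ι, Δ' ⊆ Δ → (∀ i ∈ Δ', ∀ j ∈ Δ \ Δ', P.IsOrthogonal i j) → Δ' = ∅ ∨ Δ' = Δ := by
  intro Δ' hsub horth
  have hpart := fun k => Groth.Agent.S5483.result P Δ Δ' hΔ hsub horth k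
  have hcompl : (inSpan P Δ')ᶜ = inSpan P (Δ \ Δ') := by
    ext k
    constructor
    · intro hk
      exact (hpart k).1.resolve_left hk
    · intro hk hk'
      exact (hpart k).2 ⟨hk', hk⟩
  rcases hirr (inSpan P Δ') (isClosedSub_inSpan _) (isSymmSub_inSpan _)
    (by rw [hcompl]; exact isClosedSub_inSpan _) (by rw [hcompl]; exact isSymmSub_inSpan _)
    with h | h
  · left
    apply Set.eq_empty_of_subset_empty
    rw [← h]
    intro i hi
    exact Submodule.subset_span ⟨i, hi, rfl⟩
  · right
    apply Set.Subset.antisymm hsub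
    intro i hi
    by_contra hi'
    have : i ∈ inSpan P (Δ \ Δ') := Submodule.subset_span ⟨i, ⟨hi, hi'⟩, rfl⟩
    rw [← hcompl, h] at this
    exact this (Set.mem_univ i)

lemma chain_of_irr [Finite ι] (hirr : Irr P) (i j : ι) :
    Relation.ReflTransGen (fun a b : ι => ¬ P.IsOrthogonal a b) i j := by
  obtain ⟨S, hS⟩ := exists_isPosSys P
  have hΔ := ps_isSimpleSys_simpleOf hS
  exact Groth.Agent.S5494.result P _ hΔ (conn_of_irr hirr hΔ) i j

lemma rootForm_aut_smul [Fintype ι] (g : P.Aut) (x y : M) :
    P.RootForm (g • x) (g • y) = P.RootForm x y := by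
  rw [P.rootForm_apply_apply, P.rootForm_apply_apply,
    ← Equiv.sum_comp (Equiv.indexHom P g)
      (fun l => P.coroot' l (g • x) * P.coroot' l (g • y))]
  apply Finset.sum_congr rfl
  intro l _
  show P.coroot' (g • l) (g • x) * P.coroot' (g • l) (g • y) = _
  rw [aut_coroot', aut_coroot']

lemma rootForm_root_smul [Fintype ι] (g : P.Aut) (i : ι) :
    P.RootForm (P.root (g • i)) (P.root (g • i)) = P.RootForm (P.root i) (P.root i) := by
  rw [root_smul, rootForm_aut_smul]

lemma not_orth_iff [Finite ι] {i j : ι} : ¬ P.IsOrthogonal i j ↔ P.pairing i j ≠ 0 := by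
  unfold RootPairing.IsOrthogonal
  constructor
  · intro h h0
    exact h ⟨h0, (pairing_zero_iff P).1 h0⟩
  · intro h h'
    exact h h'.1

lemma pairing_reflectionPerm_left (b a c : ι) :
    P.pairing (P.reflectionPerm b a) c = P.pairing a c - P.pairing a b * P.pairing b c := by
  rw [← P.root_coroot'_eq_pairing, P.root_reflectionPerm, P.reflection_apply, map_sub, map_smul,
    P.root_coroot'_eq_pairing, P.root_coroot'_eq_pairing, P.root_coroot'_eq_pairing, smul_eq_mul]

lemma exists_weyl_not_orth [Finite ι] (hirr : Irr P) (i j : ι) :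
    ∃ w ∈ P.weylGroup, ¬ P.IsOrthogonal (w • i) j := by
  have hchain := chain_of_irr hirr i j
  induction hchain with
  | refl =>
    refine ⟨1, one_mem _, ?_⟩
    rw [one_smul, not_orth_iff, P.pairing_same]
    norm_num
  | tail hab hbc ih =>
    rename_i b c
    obtain ⟨w, hw, hwb⟩ := ih
    by_cases hwc : P.IsOrthogonal (w • i) c
    · refine ⟨Equiv.reflection P b * w, mul_mem (P.reflection_mem_weylGroup b) hw, ?_⟩
      rw [not_orth_iff] at hwb hbc ⊢
      rw [mul_smul, reflection_smul_idx, pairing_reflectionPerm_left, hwc.1, zero_sub]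
      exact neg_ne_zero.2 (mul_ne_zero hwb hbc)
    · exact ⟨w, hw, hwc⟩

lemma pairing_mul_rootForm [Fintype ι] [Finite ι] (i j : ι) :
    P.pairing i j * P.RootForm (P.root j) (P.root j) =
      P.pairing j i * P.RootForm (P.root i) (P.root i) := by
  rw [← two_mul_rootForm, ← two_mul_rootForm, rootForm_comm]

/-- Roots in different parts of a partition into closed symmetric subsets are orthogonal. -/
lemma orth_of_partition [Finite ι] {R' : Set ι} (hc : IsClosedSub P R') (hs : IsSymmSub P R')
    (hc' : IsClosedSub P R'ᶜ) (hs' : IsSymmSub P R'ᶜ) {a b : ι} (ha : a ∈ R') (hb : b ∉ R') :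
    P.IsOrthogonal a b := by
  by_contra hno
  have hne := not_orth_iff.1 hno
  have hab : a ≠ b := fun h => hb (h ▸ ha)
  rcases lt_or_gt_of_ne hne with hneg | hpos
  · by_cases hopp : P.root a = -P.root b
    · apply hb
      have h1 := hs ha
      have : P.reflectionPerm a a = b := by
        apply P.root.injective
        rw [root_negIdx, hopp, neg_neg]
      rwa [this] at h1
    · obtain ⟨k, hk⟩ := add_mem_of_pairing_neg P hneg hopp
      rcases Groth.Agent.S5497.result P R' hc hs hc' hs' a b k hk with h | h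
      · exact hb h.2.1
      · exact h.1 ha
  · obtain ⟨k, hk⟩ := sub_mem_of_pairing_pos P hpos hab
    have hk' : P.root a = P.root k + P.root b := by rw [hk]; abel
    rcases Groth.Agent.S5497.result P R' hc hs hc' hs' k b a hk' with h | h
    · exact hb h.2.1
    · exact h.2.2 ha

lemma irr_of_chain [Finite ι]
    (hchain : ∀ i j : ι, Relation.ReflTransGen (fun a b : ι => ¬ P.IsOrthogonal a b) i j) :
    Irr P := by
  intro R' hc hs hc' hs'
  by_contra hcon
  push Not at hcon
  obtain ⟨i, hi⟩ := hcon.1
  obtain ⟨j, hj⟩ := (Set.ne_univ_iff_exists_notMem R').1 hcon.2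
  have key : ∀ j, Relation.ReflTransGen (fun a b : ι => ¬ P.IsOrthogonal a b) i j → j ∈ R' := by
    intro j hij
    induction hij with
    | refl => exact hi
    | tail _ hbc ih =>
      by_contra hcR
      exact hbc (orth_of_partition hc hs hc' hs' ih hcR)
  exact hj (key j (hchain i j))

lemma isOrthogonal_flip_iff {a b : ι} : P.flip.IsOrthogonal a b ↔ P.IsOrthogonal a b := by
  unfold RootPairing.IsOrthogonal
  simp only [RootPairing.pairing_flip]
  exact and_comm

lemma irr_flip [Finite ι] (hirr : Irr P) : Irr P.flip := by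
  apply irr_of_chain
  intro i j
  refine Relation.ReflTransGen.mono ?_ i j (chain_of_irr hirr i j)
  intro a b hab h
  exact hab (isOrthogonal_flip_iff.1 h)

end Groth.Agent.H23.RD
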