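import Groth.Agent.H23.RootD.Weyl
import Groth.Agent.S5467

/-! Words in simple reflections: deletion condition and simple transitivity. -/

set_option autoImplicit false

namespace Groth.Agent.H23.RD

open RootD Set RootPairing

variable {ι M N : Type*} [AddCommGroup M] [AddCommGroup N] {P : RootPairing ι ℤ M N}

lemma refl_mul_self (i : ι) : Equiv.reflection P i * Equiv.reflection P i = 1 := by
  calc Equiv.reflection P i * Equiv.reflection P i
      = (Equiv.reflection P i)⁻¹ * Equiv.reflection P i := by rw [Equiv.reflection_inv]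
    _ = 1 := inv_mul_cancel _

lemma aut_reflection_eq_of_root_eq_zsmul [Finite ι] {i j : ι} {t : ℤ}
    (h : P.root j = t • P.root i) : Equiv.reflection P j = Equiv.reflection P i := by
  apply Equiv.weightHom_injective P
  simp only [Equiv.weightHom_apply, Equiv.reflection_weightEquiv]
  exact reflection_eq_of_root_eq_zsmul P h

lemma mul_reflection (g : P.Aut) (i : ι) :
    g * Equiv.reflection P i = Equiv.reflection P (g • i) * g := by
  apply Equiv.weightHom_injective P
  ext x
  show g • (Equiv.reflection P i • x) = Equiv.reflection P (g • i) • (g • x)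
  rw [Equiv.reflection_smul, Equiv.reflection_smul, P.reflection_apply, P.reflection_apply,
    smul_sub, root_smul, aut_coroot', smul_comm]

lemma conj_reflection (g : P.Aut) (i : ι) :
    g * Equiv.reflection P i * g⁻¹ = Equiv.reflection P (g • i) := by
  rw [mul_reflection, mul_assoc, mul_inv_cancel, mul_one]

/-- The product of the reflections along a word. -/
noncomputable def wprod (P : RootPairing ι ℤ M N) (L : List ι) : P.Aut := (L.map (Equiv.reflection P)).prod

@[simp] lemma wprod_nil : wprod P [] = 1 := rfl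

@[simp] lemma wprod_cons (a : ι) (L : List ι) :
    wprod P (a :: L) = Equiv.reflection P a * wprod P L := by
  simp [wprod]

lemma wprod_append (L L' : List ι) : wprod P (L ++ L') = wprod P L * wprod P L' := by
  simp [wprod]

lemma wprod_reverse (L : List ι) : wprod P L.reverse = (wprod P L)⁻¹ := by
  induction L with
  | nil => simp
  | cons a L ih =>
    rw [List.reverse_cons, wprod_append, ih, wprod_cons, wprod_cons, wprod_nil, mul_one, mul_inv_rev,
      Equiv.reflection_inv]

lemma wprod_mem_closure {Δ : Set ι} {L : List ι} (hL : ∀ a ∈ L, a ∈ Δ) :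
    wprod P L ∈ Subgroup.closure ((fun i : ι => Equiv.reflection P i) '' Δ) := by
  induction L with
  | nil => exact one_mem _
  | cons a L ih =>
    rw [wprod_cons]
    exact mul_mem (Subgroup.subset_closure ⟨a, hL a (by simp), rfl⟩)
      (ih (fun b hb => hL b (by simp [hb])))

lemma exists_word_of_mem_closure {Δ : Set ι} {g : P.Aut}
    (hg : g ∈ Subgroup.closure ((fun i : ι => Equiv.reflection P i) '' Δ)) :
    ∃ L : List ι, (∀ a ∈ L, a ∈ Δ) ∧ g = wprod P L := by
  induction hg using Subgroup.closure_induction with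
  | mem g hg =>
    obtain ⟨i, hi, rfl⟩ := hg
    exact ⟨[i], by simpa using hi, by simp⟩
  | one => exact ⟨[], by simp, rfl⟩
  | mul g h _ _ hg hh =>
    obtain ⟨L, hL, rfl⟩ := hg
    obtain ⟨L', hL', rfl⟩ := hh
    refine ⟨L ++ L', ?_, (wprod_append L L').symm⟩
    intro a ha
    rcases List.mem_append.1 ha with h | h
    · exact hL a h
    · exact hL' a h
  | inv g _ hg =>
    obtain ⟨L, hL, rfl⟩ := hg
    exact ⟨L.reverse, fun a ha => hL a (List.mem_reverse.1 ha), (wprod_reverse L).symm⟩

variable {Δ : Set ι}

/-- A positive root made negative by a simple reflection `s_a` is a multiple of `α_a`. -/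
lemma root_eq_zsmul_of_reflection_neg (hΔ : IsSimpleSys P Δ) {k a : ι} (hk : k ∈ posOf P Δ)
    (ha : a ∈ Δ) (hneg : P.reflectionPerm a k ∉ posOf P Δ) : ∃ t : ℤ, P.root k = t • P.root a := by
  classical
  have h : ∀ j, j ≠ a → coeff hΔ k j = 0 := by
    intro j hj
    by_contra hne
    exact hneg (reflectionPerm_mem_posOf hΔ hk ha ⟨j, hj, hne⟩)
  refine ⟨coeff hΔ k a, ?_⟩
  have hck : coeff hΔ k = Finsupp.single a (coeff hΔ k a) := by
    ext j
    by_cases hj : j = a
    · subst hj; simp
    · rw [h j hj, Finsupp.single_apply, if_neg (Ne.symm hj)]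
  have h1 := lc_coeff hΔ k
  rw [hck] at h1
  rw [← h1]
  simp [lc]

/-- Deletion condition. -/
lemma deletion [Finite ι] (hΔ : IsSimpleSys P Δ) {i : ι} (hi : i ∈ Δ) :
    ∀ L : List ι, (∀ a ∈ L, a ∈ Δ) → wprod P L • i ∉ posOf P Δ →
    ∃ L' : List ι, (∀ a ∈ L', a ∈ Δ) ∧ L'.length < L.length ∧
      wprod P L * Equiv.reflection P i = wprod P L' := by
  intro L
  induction L with
  | nil =>
    intro _ h
    exact absurd (subset_posOf hΔ hi) (by simpa using h)
  | cons a L ih =>
    intro hL hneg
    have ha : a ∈ Δ := hL a (by simp)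
    have hL' : ∀ b ∈ L, b ∈ Δ := fun b hb => hL b (by simp [hb])
    by_cases hk : wprod P L • i ∈ posOf P Δ
    · rw [wprod_cons, mul_smul, reflection_smul_idx] at hneg
      obtain ⟨t, ht⟩ := root_eq_zsmul_of_reflection_neg hΔ hk ha hneg
      have h1 : Equiv.reflection P (wprod P L • i) = Equiv.reflection P a :=
        aut_reflection_eq_of_root_eq_zsmul ht
      refine ⟨L, hL', by simp, ?_⟩
      rw [wprod_cons, ← h1, ← mul_reflection, mul_assoc, refl_mul_self, mul_one]
    · obtain ⟨L'', hL'', hlen, heq⟩ := ih hL' hk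
      refine ⟨a :: L'', ?_, by simpa using hlen, ?_⟩
      · intro b hb
        rcases List.mem_cons.1 hb with rfl | hb
        · exact ha
        · exact hL'' b hb
      · rw [wprod_cons, wprod_cons, mul_assoc, heq]

lemma wprod_eq_one_of_pos [Finite ι] (hΔ : IsSimpleSys P Δ) : ∀ n : ℕ, ∀ L : List ι, L.length = n →
    (∀ a ∈ L, a ∈ Δ) → (∀ k ∈ posOf P Δ, wprod P L • k ∈ posOf P Δ) → wprod P L = 1 := by
  intro n
  induction n using Nat.strong_induction_on with
  | _ n ih =>
    intro L hn hL hpos
    rcases List.eq_nil_or_concat L with rfl | ⟨L0, i, hLeq⟩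
    · rfl
    · rw [List.concat_eq_append] at hLeq
      subst hLeq
      have hi : i ∈ Δ := hL i (by simp)
      have hL0 : ∀ a ∈ L0, a ∈ Δ := fun a ha => hL a (by simp [ha])
      have hw : wprod P (L0 ++ [i]) = wprod P L0 * Equiv.reflection P i := by
        rw [wprod_append]; simp
      have hneg : wprod P L0 • i ∉ posOf P Δ := by
        have h1 := hpos i (subset_posOf hΔ hi)
        have h2 : wprod P L0 • i =
            P.reflectionPerm (wprod P (L0 ++ [i]) • i) (wprod P (L0 ++ [i]) • i) := by
          rw [← smul_negIdx, hw, mul_smul, reflection_smul_idx, P.reflectionPerm_self]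
        rw [h2, negIdx_mem_posOf_iff hΔ]
        exact fun h => h h1
      obtain ⟨L', hL', hlen, heq⟩ := deletion hΔ hi L0 hL0 hneg
      rw [hw, heq]
      have hlt : L'.length < n := by
        simp only [List.length_append, List.length_cons, List.length_nil] at hn
        omega
      apply ih L'.length hlt L' rfl hL'
      intro k hk
      rw [← heq, ← hw]
      exact hpos k hk

/-- Simple transitivity: an element of the group generated by the simple reflections that
preserves the positive roots is the identity. -/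
theorem eq_one_of_mem_closure_of_pos [Finite ι] (hΔ : IsSimpleSys P Δ) {g : P.Aut}
    (hg : g ∈ Subgroup.closure ((fun i : ι => Equiv.reflection P i) '' Δ))
    (hpos : ∀ k ∈ posOf P Δ, g • k ∈ posOf P Δ) : g = 1 := by
  obtain ⟨L, hL, rfl⟩ := exists_word_of_mem_closure hg
  exact wprod_eq_one_of_pos hΔ _ L rfl hL hpos

lemma isIndiv_reflectionPerm {i k : ι} (h : IsIndiv P k) : IsIndiv P (P.reflectionPerm i k) := by
  intro j hj
  apply h (P.reflectionPerm i j)
  rw [P.root_reflectionPerm, ← map_smul, hj, P.root_reflectionPerm, P.reflection_same]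

/-- The height of a positive root is positive. -/
lemma height_pos (hΔ : IsSimpleSys P Δ) {k : ι} (hk : k ∈ posOf P Δ) :
    0 < (coeff hΔ k).sum fun _ a => a := by
  classical
  have h0 := (mem_posOf_iff hΔ).1 hk
  obtain ⟨l, hl⟩ : ∃ l, coeff hΔ k l ≠ 0 := by
    by_contra hcon
    push Not at hcon
    exact coeff_ne_zero hΔ k (Finsupp.ext hcon)
  refine Finset.sum_pos' (fun i _ => h0 i) ⟨l, Finsupp.mem_support_iff.2 hl, ?_⟩
  exact lt_of_le_of_ne (h0 l) (Ne.symm hl)

lemma reflection_mem_closure_simple_aux [Finite ι] (hΔ : IsSimpleSys P Δ) : ∀ n : ℕ,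
    ∀ k ∈ posOf P Δ, ((coeff hΔ k).sum fun _ a => a) = (n : ℤ) →
    Equiv.reflection P k ∈ Subgroup.closure ((fun i : ι => Equiv.reflection P i) '' Δ) := by
  classical
  intro n
  induction n using Nat.strong_induction_on with
  | _ n ih =>
    intro k hk hn
    by_cases hkΔ : k ∈ Δ
    · exact Subgroup.subset_closure ⟨k, hkΔ, rfl⟩
    by_cases hind : IsIndiv P k
    · obtain ⟨i, hi, hp, hpos⟩ := Groth.Agent.S5467.result P Δ hΔ k hk hkΔ hind
      have hco := coeff_reflectionPerm hΔ hi k
      have hsum : ((coeff hΔ (P.reflectionPerm i k)).sum fun _ a => a) = (n : ℤ) - P.pairing k i := by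
        rw [hco, Finsupp.sum_sub_index (fun _ _ _ => rfl), hn, Finsupp.sum_single_index rfl]
      have hpos' := height_pos hΔ hpos
      obtain ⟨m, hm⟩ := Int.eq_ofNat_of_zero_le hpos'.le
      have hlt : m < n := by
        have : (m : ℤ) < n := by rw [← hm, hsum]; linarith
        exact_mod_cast this
      have h1 := ih m hlt _ hpos hm
      have hs : Equiv.reflection P i ∈
          Subgroup.closure ((fun i : ι => Equiv.reflection P i) '' Δ) :=
        Subgroup.subset_closure ⟨i, hi, rfl⟩
      have h2 := conj_reflection (Equiv.reflection P i) (P.reflectionPerm i k)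
      rw [reflection_smul_idx, P.reflectionPerm_self] at h2
      rw [← h2]
      exact mul_mem (mul_mem hs h1) (inv_mem hs)
    · unfold IsIndiv at hind
      push Not at hind
      obtain ⟨j, hj⟩ := hind
      have hjco : coeff hΔ k = (2 : ℤ) • coeff hΔ j := by
        apply coeff_eq hΔ
        · intro l hl
          apply coeff_supp hΔ j
          rw [Finset.mem_coe, Finsupp.mem_support_iff] at hl ⊢
          intro h0
          apply hl
          simp [h0]
        · have := lc_coeff hΔ j
          unfold lc at this ⊢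
          rw [map_smul, this, hj]
      have hjpos : j ∈ posOf P Δ := by
        rw [mem_posOf_iff hΔ]
        intro l
        have := (mem_posOf_iff hΔ).1 hk l
        rw [hjco] at this
        simp only [Finsupp.coe_smul, Pi.smul_apply, smul_eq_mul] at this
        linarith
      have hsum : (n : ℤ) = 2 * ((coeff hΔ j).sum fun _ a => a) := by
        rw [← hn, hjco, Finsupp.sum_smul_index' (fun _ => rfl), Finsupp.sum, Finsupp.sum,
          Finset.mul_sum]
        simp
      have hpos' := height_pos hΔ hjpos
      obtain ⟨m, hm⟩ := Int.eq_ofNat_of_zero_le hpos'.le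
      have hlt : m < n := by
        have : (m : ℤ) < n := by rw [hsum, ← hm]; linarith
        exact_mod_cast this
      have h1 := ih m hlt _ hjpos hm
      have : Equiv.reflection P k = Equiv.reflection P j :=
        aut_reflection_eq_of_root_eq_zsmul (t := 2) hj.symm
      rw [this]
      exact h1

theorem reflection_mem_closure_simple [Finite ι] (hΔ : IsSimpleSys P Δ) (k : ι) :
    Equiv.reflection P k ∈ Subgroup.closure ((fun i : ι => Equiv.reflection P i) '' Δ) := by
  by_cases hk : k ∈ posOf P Δ
  · obtain ⟨m, hm⟩ := Int.eq_ofNat_of_zero_le (height_pos hΔ hk).le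
    exact reflection_mem_closure_simple_aux hΔ m k hk hm
  · have hk' := (negIdx_mem_posOf_iff hΔ).2 hk
    obtain ⟨m, hm⟩ := Int.eq_ofNat_of_zero_le (height_pos hΔ hk').le
    have := reflection_mem_closure_simple_aux hΔ m _ hk' hm
    have h2 : Equiv.reflection P (P.reflectionPerm k k) = Equiv.reflection P k :=
      aut_reflection_eq_of_root_eq_zsmul (t := -1) (by rw [root_negIdx]; simp)
    rwa [h2] at this

theorem weylGroup_eq_closure_simple [Finite ι] (hΔ : IsSimpleSys P Δ) :
    P.weylGroup = Subgroup.closure ((fun i : ι => Equiv.reflection P i) '' Δ) := by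
  apply le_antisymm
  · rw [RootPairing.weylGroup]
    apply (Subgroup.closure_le _).2
    rintro _ ⟨k, rfl⟩
    exact reflection_mem_closure_simple hΔ k
  · apply Subgroup.closure_mono
    rintro _ ⟨i, _, rfl⟩
    exact ⟨i, rfl⟩

/-- Simple transitivity for the Weyl group. -/
theorem weyl_eq_one_of_pos [Finite ι] (hΔ : IsSimpleSys P Δ) {g : P.Aut} (hg : g ∈ P.weylGroup)
    (hpos : ∀ k ∈ posOf P Δ, g • k ∈ posOf P Δ) : g = 1 :=
  eq_one_of_mem_closure_of_pos hΔ (by rwa [← weylGroup_eq_closure_simple hΔ]) hpos

theorem weyl_eq_one_of_image_eq [Finite ι] (hΔ : IsSimpleSys P Δ) {g : P.Aut} (hg : g ∈ P.weylGroup)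
    (h : (fun i : ι => g • i) '' Δ = Δ) : g = 1 := by
  apply weyl_eq_one_of_pos hΔ hg
  intro k hk
  show P.root (g • k) ∈ natSpan P Δ
  rw [root_smul]
  have := (smul_mem_natSpan_image (S := Δ) g (x := P.root k)).2 hk
  rwa [h] at this

lemma isSimpleSys_image [Finite ι] (hΔ : IsSimpleSys P Δ) (u : P.Aut) :
    IsSimpleSys P ((fun i : ι => u • i) '' Δ) := by
  have h1 := isPosSys_image u (isPosSys_posOf hΔ)
  have h2 := ps_isSimpleSys_simpleOf h1
  rwa [simpleOf_image, simpleOf_posOf hΔ] at h2

end Groth.Agent.H23.RD
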