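import Groth.Agent.H23.RootD.Basic

/-! Positive systems and simple systems for root data over `ℤ` (SGA3 XXI 3). -/

set_option autoImplicit false

namespace Groth.Agent.H23.RD

open RootD Set

variable {ι M N : Type*} [AddCommGroup M] [AddCommGroup N] {P : RootPairing ι ℤ M N}

section pos

variable {S : Set ι}

/-- pointedness of the cone of a positive system -/
lemma ps_pointed (hS : IsPosSys P S) {c : ι →₀ ℤ} (h0 : ∀ i, 0 ≤ c i)
    (hcS : ↑c.support ⊆ S) (h : lc P c = 0) : c = 0 := by
  classical
  by_contra hne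
  obtain ⟨l, hl⟩ : ∃ l, c l ≠ 0 := by
    by_contra hcon
    push Not at hcon
    exact hne (Finsupp.ext hcon)
  have hlS : l ∈ S := hcS (Finsupp.mem_support_iff.2 hl)
  have hpos : 0 < c l := lt_of_le_of_ne (h0 l) (Ne.symm hl)
  have hdecomp : lc P c = c l • P.root l + lc P (c.erase l) := by
    conv_lhs => rw [← Finsupp.single_add_erase l c]
    simp [lc]
  have hmem : lc P (c.erase l) ∈ natSpan P S := by
    refine (mem_natSpan_iff P).2 ⟨c.erase l, fun i => ?_, ?_, rfl⟩
    · by_cases hi : i = l
      · subst hi; simp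
      · rw [Finsupp.erase_ne hi]; exact h0 i
    · intro i hi
      rw [Finsupp.support_erase] at hi
      exact hcS (Finset.mem_of_mem_erase hi)
  have hkey : (c l).toNat • P.root (P.reflectionPerm l l) = lc P (c.erase l) := by
    rw [root_negIdx, ← natCast_zsmul, Int.toNat_of_nonneg hpos.le, smul_neg]
    rw [hdecomp] at h
    exact (neg_eq_of_add_eq_zero_right h)
  have : P.reflectionPerm l l ∈ S :=
    hS.sat (c l).toNat (by omega) (hkey ▸ hmem)
  exact hS.disjoint hlS this

lemma ps_eq_zero_of_mem_of_neg_mem (hS : IsPosSys P S) {x : M} (h1 : x ∈ natSpan P S)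
    (h2 : -x ∈ natSpan P S) : x = 0 := by
  classical
  obtain ⟨c, hc0, hcS, rfl⟩ := (mem_natSpan_iff P).1 h1
  obtain ⟨d, hd0, hdS, hd⟩ := (mem_natSpan_iff P).1 h2
  have hsum : c + d = 0 := by
    apply ps_pointed hS (fun i => add_nonneg (hc0 i) (hd0 i))
    · intro j hj
      rcases Finset.mem_union.1 (Finsupp.support_add hj) with h | h
      · exact hcS h
      · exact hdS h
    · simp only [lc, map_add] at hd ⊢
      rw [hd]; abel
  have : c = 0 := by
    ext i
    have h := DFunLike.congr_fun hsum i
    simp only [Finsupp.coe_add, Pi.add_apply, Finsupp.coe_zero, Pi.zero_apply] at h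
    have := hc0 i
    have := hd0 i
    simp only [Finsupp.coe_zero, Pi.zero_apply]
    omega
  simp [this, lc]

lemma ps_mem_of_root_mem_natSpan (hS : IsPosSys P S) {k : ι}
    (h : P.root k ∈ natSpan P S) : k ∈ S :=
  hS.sat 1 one_pos (by simpa using h)

lemma ps_closed (hS : IsPosSys P S) : IsClosedSub P S := fun i j k hi hj hk =>
  ps_mem_of_root_mem_natSpan hS (by
    rw [hk]; exact add_mem (root_mem_natSpan P hi) (root_mem_natSpan P hj))

variable (P) in
/-- the indecomposable elements of a set of roots -/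
def simpleOf (S : Set ι) : Set ι :=
  {i | i ∈ S ∧ ∀ j ∈ S, ∀ k ∈ S, P.root i ≠ P.root j + P.root k}

lemma simpleOf_subset : simpleOf P S ⊆ S := fun _ h => h.1

lemma ps_root_mem_natSpan_simpleOf [Finite ι] (hS : IsPosSys P S) {i : ι} (hi : i ∈ S) :
    P.root i ∈ natSpan P (simpleOf P S) := by
  let r : ι → ι → Prop := fun j i => j ∈ S ∧ i ∈ S ∧ j ≠ i ∧ P.root i - P.root j ∈ natSpan P S
  have : Std.Irrefl r := ⟨fun a h => h.2.2.1 rfl⟩
  have : IsTrans ι r := ⟨by
    rintro a b c ⟨ha, hb, hab, h1⟩ ⟨-, hc, hbc, h2⟩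
    refine ⟨ha, hc, ?_, ?_⟩
    · rintro rfl
      have h3 : -(P.root b - P.root a) ∈ natSpan P S := by rwa [neg_sub]
      have := ps_eq_zero_of_mem_of_neg_mem hS h1 h3
      exact hab (P.root.injective (sub_eq_zero.1 this)).symm
    · have : P.root c - P.root a = (P.root c - P.root b) + (P.root b - P.root a) := by abel
      rw [this]; exact add_mem h2 h1⟩
  have wf : WellFounded r := Finite.wellFounded_of_trans_of_irrefl r
  induction i using wf.induction with
  | _ i ih =>
    by_cases hsi : i ∈ simpleOf P S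
    · exact root_mem_natSpan P hsi
    · have : ∃ j ∈ S, ∃ k ∈ S, P.root i = P.root j + P.root k := by
        by_contra hcon
        push Not at hcon
        exact hsi ⟨hi, hcon⟩
      obtain ⟨j, hj, k, hk, hjk⟩ := this
      have hji : r j i := by
        refine ⟨hj, hi, ?_, ?_⟩
        · rintro rfl
          exact P.ne_zero k (by simpa using hjk)
        · rw [hjk, add_sub_cancel_left]; exact root_mem_natSpan P hk
      have hki : r k i := by
        refine ⟨hk, hi, ?_, ?_⟩
        · rintro rfl
          exact P.ne_zero j (by simpa using hjk)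
        · rw [hjk, add_sub_cancel_right]; exact root_mem_natSpan P hj
      rw [hjk]
      exact add_mem (ih j hji hj) (ih k hki hk)

lemma ps_pairing_le_zero_of_simpleOf [Finite ι] (hS : IsPosSys P S) {i j : ι}
    (hi : i ∈ simpleOf P S) (hj : j ∈ simpleOf P S) (hij : i ≠ j) : P.pairing i j ≤ 0 := by
  by_contra h
  push Not at h
  obtain ⟨k, hk⟩ := sub_mem_of_pairing_pos P h hij
  rcases hS.cover k with hkS | hkS
  · exact hi.2 j hj.1 k hkS (by rw [hk]; abel)
  · exact hj.2 i hi.1 _ hkS (by rw [root_negIdx, hk]; abel)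

end pos

section indep

lemma lc_mem_rootSpan (c : ι →₀ ℤ) : lc P c ∈ P.rootSpan ℤ := by
  rw [lc, Finsupp.linearCombination_apply, Finsupp.sum]
  exact Submodule.sum_mem _ (fun i _ => Submodule.smul_mem _ _ (root_mem_rootSpan P i))

lemma rootForm_lc_lc [Fintype ι] (c d : ι →₀ ℤ) : P.RootForm (lc P c) (lc P d) =
    ∑ i ∈ c.support, ∑ j ∈ d.support, c i * (d j * P.RootForm (P.root i) (P.root j)) := by
  simp only [lc, Finsupp.linearCombination_apply, Finsupp.sum, map_sum, LinearMap.sum_apply,
    map_smul, LinearMap.smul_apply, smul_eq_mul, Finset.mul_sum]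
  rw [Finset.sum_comm]
  refine Finset.sum_congr rfl (fun i _ => Finset.sum_congr rfl (fun j _ => ?_))
  ring

/-- obtuse + pointed implies linearly independent -/
lemma linearIndepOn_of_obtuse_of_pointed [Finite ι] {Δ : Set ι}
    (hob : ∀ i ∈ Δ, ∀ j ∈ Δ, i ≠ j → P.pairing i j ≤ 0)
    (hpt : ∀ c : ι →₀ ℤ, (∀ i, 0 ≤ c i) → ↑c.support ⊆ Δ → lc P c = 0 → c = 0) :
    LinearIndepOn ℤ P.root Δ := by
  classical
  have : Fintype ι := Fintype.ofFinite ι
  rw [linearIndepOn_iff]
  intro l hl h0
  rw [Finsupp.mem_supported] at hl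
  set lp : ι →₀ ℤ := l.mapRange (fun a => max a 0) (by simp) with hlp
  set ln : ι →₀ ℤ := l.mapRange (fun a => max (-a) 0) (by simp) with hln
  have hsub : l = lp - ln := by
    ext i
    simp only [hlp, hln, Finsupp.coe_sub, Pi.sub_apply, Finsupp.mapRange_apply]
    rcases le_total (l i) 0 with h | h
    · rw [max_eq_right h, max_eq_left (by omega)]; ring
    · rw [max_eq_left h, max_eq_right (by omega)]; ring
  have hp0 : ∀ i, 0 ≤ lp i := fun i => by simp [hlp]
  have hn0 : ∀ i, 0 ≤ ln i := fun i => by simp [hln]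
  have hpS : ↑lp.support ⊆ Δ := fun i hi => hl (Finsupp.support_mapRange hi)
  have hnS : ↑ln.support ⊆ Δ := fun i hi => hl (Finsupp.support_mapRange hi)
  have hdisj : ∀ i, lp i * ln i = 0 := by
    intro i
    simp only [hlp, hln, Finsupp.mapRange_apply]
    rcases le_total (l i) 0 with h | h
    · rw [max_eq_right h]; simp
    · rw [max_eq_right (show -l i ≤ 0 by omega)]; simp
  have hx : lc P lp = lc P ln := by
    have : lc P l = lc P lp - lc P ln := by rw [hsub]; simp [lc]
    rw [show lc P l = 0 from h0] at this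
    exact (sub_eq_zero.1 this.symm)
  have hB : P.RootForm (lc P lp) (lc P lp) ≤ 0 := by
    conv_lhs => rw [hx, ← hx]
    nth_rewrite 2 [hx]
    rw [rootForm_lc_lc]
    refine Finset.sum_nonpos (fun i hi => Finset.sum_nonpos (fun j hj => ?_))
    by_cases hij : i = j
    · subst hij
      rw [← mul_assoc, hdisj, zero_mul]
    · have : P.RootForm (P.root i) (P.root j) ≤ 0 :=
        (rootForm_nonpos_iff P i j).2 (hob i (hpS hi) j (hnS hj) hij)
      exact mul_nonpos_of_nonneg_of_nonpos (hp0 i)
        (mul_nonpos_of_nonneg_of_nonpos (hn0 j) this)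
  have hz : lc P lp = 0 :=
    P.eq_zero_of_mem_rootSpan_of_rootForm_self_eq_zero (lc_mem_rootSpan lp)
      (le_antisymm hB (P.zero_le_rootForm _))
  have h1 := hpt lp hp0 hpS hz
  have h2 := hpt ln hn0 hnS (hx ▸ hz)
  rw [hsub, h1, h2, sub_zero]

end indep

section correspondence

variable {S Δ : Set ι}

lemma ps_isSimpleSys_simpleOf [Finite ι] (hS : IsPosSys P S) : IsSimpleSys P (simpleOf P S) := by
  refine ⟨?_, ?_⟩
  · apply linearIndepOn_of_obtuse_of_pointed
    · intro i hi j hj hij
      exact ps_pairing_le_zero_of_simpleOf hS hi hj hij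
    · intro c h0 hcS h
      exact ps_pointed hS h0 (hcS.trans simpleOf_subset) h
  · intro i
    rcases hS.cover i with h | h
    · exact Or.inl (ps_root_mem_natSpan_simpleOf hS h)
    · right
      have := ps_root_mem_natSpan_simpleOf hS h
      rwa [root_negIdx] at this

lemma ps_posOf_simpleOf [Finite ι] (hS : IsPosSys P S) : posOf P (simpleOf P S) = S := by
  ext k
  constructor
  · intro hk
    exact ps_mem_of_root_mem_natSpan hS (natSpan_mono P simpleOf_subset hk)
  · intro hk
    exact ps_root_mem_natSpan_simpleOf hS hk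

lemma natSpan_posOf_le (Δ : Set ι) : natSpan P (posOf P Δ) ≤ natSpan P Δ := by
  apply AddSubmonoid.closure_le.2
  rintro _ ⟨k, hk, rfl⟩
  exact hk

lemma isPosSys_posOf (hΔ : IsSimpleSys P Δ) : IsPosSys P (posOf P Δ) := by
  refine ⟨?_, ?_, ?_⟩
  · intro i hi
    rw [negIdx_mem_posOf_iff hΔ]
    exact not_not.2 hi
  · intro i
    by_cases hi : i ∈ posOf P Δ
    · exact Or.inl hi
    · exact Or.inr ((negIdx_mem_posOf_iff hΔ).2 hi)
  · intro k n hn hk
    obtain ⟨c, hc0, hcS, hc⟩ := (mem_natSpan_iff P).1 (natSpan_posOf_le Δ hk)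
    have : c = (n : ℤ) • coeff hΔ k := by
      apply coeff_unique hΔ hcS
      · intro i hi
        apply coeff_supp hΔ k
        rw [Finset.mem_coe, Finsupp.mem_support_iff] at hi ⊢
        intro h0
        apply hi
        simp [h0]
      · rw [hc]
        simp only [lc, map_smul]
        rw [show (Finsupp.linearCombination ℤ P.root) (coeff hΔ k) = P.root k from lc_coeff hΔ k,
          natCast_zsmul]
    rw [mem_posOf_iff hΔ]
    intro i
    have h1 := hc0 i
    rw [this] at h1
    simp only [Finsupp.coe_smul, Pi.smul_apply, smul_eq_mul] at h1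
    have hn' : (0 : ℤ) < n := by exact_mod_cast hn
    exact nonneg_of_mul_nonneg_right h1 hn'

lemma simpleOf_posOf [Finite ι] (hΔ : IsSimpleSys P Δ) : simpleOf P (posOf P Δ) = Δ := by
  classical
  ext k
  constructor
  · rintro ⟨hk, hind⟩
    by_contra hkΔ
    have hc0 := (mem_posOf_iff hΔ).1 hk
    have hroot : (1 : ℕ) • P.root k =
        ∑ l ∈ (coeff hΔ k).support, (coeff hΔ k l).toNat • P.root l := by
      rw [one_smul, ← lc_coeff hΔ k, lc, Finsupp.linearCombination_apply, Finsupp.sum]
      refine Finset.sum_congr rfl (fun l _ => ?_)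
      rw [← natCast_zsmul, Int.toNat_of_nonneg (hc0 l)]
    obtain ⟨l, hl, -, -, m, hm⟩ := exists_sub_mem P (coeff hΔ k).support id
      (fun l => (coeff hΔ k l).toNat) k
      (fun l hl h => hkΔ (h ▸ coeff_supp hΔ k hl)) 1 one_pos hroot
    simp only [id] at hm
    have hlΔ : l ∈ Δ := coeff_supp hΔ k hl
    have hcm : coeff hΔ m = coeff hΔ k - Finsupp.single l 1 := by
      apply coeff_eq hΔ
      · intro j hj
        rcases Finset.mem_union.1 (Finsupp.support_sub hj) with h | h
        · exact coeff_supp hΔ k h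
        · have := Finsupp.support_single_subset h
          simp only [Finset.mem_singleton] at this
          rwa [this]
      · simp only [lc, map_sub, Finsupp.linearCombination_single, one_smul]
        rw [hm]
        congr 1
        exact lc_coeff hΔ k
    have hmpos : m ∈ posOf P Δ := by
      rw [mem_posOf_iff hΔ, hcm]
      intro j
      simp only [Finsupp.coe_sub, Pi.sub_apply, Finsupp.single_apply]
      split_ifs with h
      · subst h
        have h1 := Finsupp.mem_support_iff.1 hl
        have h2 := hc0 l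
        omega
      · simpa using hc0 j
    exact hind l (subset_posOf hΔ hlΔ) m hmpos (by rw [hm]; abel)
  · intro hk
    refine ⟨subset_posOf hΔ hk, ?_⟩
    intro j hj m hm hjm
    have hsum : coeff hΔ k = coeff hΔ j + coeff hΔ m := by
      apply coeff_eq hΔ
      · intro i hi
        rcases Finset.mem_union.1 (Finsupp.support_add hi) with h | h
        · exact coeff_supp hΔ j h
        · exact coeff_supp hΔ m h
      · simp only [lc, map_add]
        rw [hjm]
        congr 1
        · exact lc_coeff hΔ j
        · exact lc_coeff hΔ m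
    rw [coeff_simple hΔ hk] at hsum
    have hj0 := (mem_posOf_iff hΔ).1 hj
    have hm0 := (mem_posOf_iff hΔ).1 hm
    have hk1 := DFunLike.congr_fun hsum k
    simp only [Finsupp.single_eq_same, Finsupp.coe_add, Pi.add_apply] at hk1
    have hother : ∀ i, i ≠ k → coeff hΔ j i = 0 ∧ coeff hΔ m i = 0 := by
      intro i hi
      have h := DFunLike.congr_fun hsum i
      simp only [Finsupp.single_apply, if_neg (Ne.symm hi), Finsupp.coe_add, Pi.add_apply] at h
      have := hj0 i
      have := hm0 i
      omega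
    have hjk := hj0 k
    have hmk := hm0 k
    have hcase : coeff hΔ j k = 0 ∨ coeff hΔ m k = 0 := by omega
    rcases hcase with h | h
    · apply coeff_ne_zero hΔ j
      ext i
      by_cases hi : i = k
      · subst hi; simpa using h
      · simpa using (hother i hi).1
    · apply coeff_ne_zero hΔ m
      ext i
      by_cases hi : i = k
      · subst hi; simpa using h
      · simpa using (hother i hi).2

end correspondence

section transport

variable {S : Set ι}

lemma root_smul (g : P.Aut) (i : ι) : P.root (g • i) = g • P.root i :=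
  RootPairing.Equiv.root_indexEquiv_eq_smul P i g

lemma smul_negIdx (g : P.Aut) (i : ι) :
    g • (P.reflectionPerm i i) = P.reflectionPerm (g • i) (g • i) := by
  apply P.root.injective
  rw [root_smul, root_negIdx, root_negIdx, root_smul, smul_neg]

lemma reflection_smul_idx (i k : ι) :
    (RootPairing.Equiv.reflection P i) • k = P.reflectionPerm i k := rfl

lemma natSpan_image (g : P.Aut) (S : Set ι) :
    natSpan P ((fun i => g • i) '' S) =
      (natSpan P S).map (DistribSMul.toAddMonoidHom M g) := by
  unfold natSpan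
  rw [AddMonoidHom.map_mclosure, Set.image_image, Set.image_image]
  congr 1
  ext x
  simp only [Set.mem_image, DistribSMul.toAddMonoidHom_apply, root_smul]

lemma smul_mem_natSpan_image (g : P.Aut) {x : M} :
    g • x ∈ natSpan P ((fun i => g • i) '' S) ↔ x ∈ natSpan P S := by
  rw [natSpan_image, AddSubmonoid.mem_map]
  constructor
  · rintro ⟨y, hy, h⟩
    have : y = x := by
      simpa [DistribSMul.toAddMonoidHom_apply] using h
    rwa [← this]
  · intro hx
    exact ⟨x, hx, rfl⟩

lemma isPosSys_image (g : P.Aut) (hS : IsPosSys P S) : IsPosSys P ((fun i => g • i) '' S) := by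
  refine ⟨?_, ?_, ?_⟩
  · rintro _ ⟨i, hi, rfl⟩ ⟨j, hj, hji⟩
    rw [← smul_negIdx] at hji
    have : j = P.reflectionPerm i i := by simpa using hji
    exact hS.disjoint hi (this ▸ hj)
  · intro i
    rcases hS.cover (g⁻¹ • i) with h | h
    · left
      exact ⟨g⁻¹ • i, h, by simp⟩
    · right
      refine ⟨_, h, ?_⟩
      show g • _ = _
      rw [smul_negIdx]
      simp
  · intro k n hn hk
    have hk' : g • (n • P.root (g⁻¹ • k)) ∈ natSpan P ((fun i => g • i) '' S) := by
      rw [smul_comm, ← root_smul, smul_inv_smul]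
      exact hk
    rw [smul_mem_natSpan_image] at hk'
    exact ⟨g⁻¹ • k, hS.sat n hn hk', by simp⟩

lemma simpleOf_image (g : P.Aut) (S : Set ι) :
    simpleOf P ((fun i => g • i) '' S) = (fun i => g • i) '' simpleOf P S := by
  ext k
  constructor
  · rintro ⟨⟨i, hi, rfl⟩, hind⟩
    refine ⟨i, ⟨hi, fun j hj m hm h => ?_⟩, rfl⟩
    refine hind (g • j) ⟨j, hj, rfl⟩ (g • m) ⟨m, hm, rfl⟩ ?_
    show P.root (g • i) = P.root (g • j) + P.root (g • m)
    rw [root_smul, root_smul, root_smul, h, smul_add]
  · rintro ⟨i, ⟨hi, hind⟩, rfl⟩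
    refine ⟨⟨i, hi, rfl⟩, ?_⟩
    rintro _ ⟨j, hj, rfl⟩ _ ⟨m, hm, rfl⟩ h
    apply hind j hj m hm
    have h' : g • P.root i = g • (P.root j + P.root m) := by
      rw [smul_add, ← root_smul, ← root_smul, ← root_smul]; exact h
    exact smul_left_cancel g h'

end transport

section existence

lemma exists_avoid {N' : Type*} [AddCommGroup N'] {κ : Type*} (s : Finset κ)
    (f : κ → (N' →ₗ[ℤ] ℤ)) (hf : ∀ i ∈ s, f i ≠ 0) : ∃ n : N', ∀ i ∈ s, f i n ≠ 0 := by
  classical
  induction s using Finset.induction_on with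
  | empty => exact ⟨0, by simp⟩
  | insert a s ha ih =>
    obtain ⟨n, hn⟩ := ih (fun i hi => hf i (Finset.mem_insert_of_mem hi))
    by_cases han : f a n ≠ 0
    · refine ⟨n, fun i hi => ?_⟩
      rcases Finset.mem_insert.1 hi with rfl | hi
      · exact han
      · exact hn i hi
    · push Not at han
      obtain ⟨m, hm⟩ : ∃ m, f a m ≠ 0 := by
        by_contra hcon
        push Not at hcon
        exact hf a (Finset.mem_insert_self a s) (LinearMap.ext hcon)
      obtain ⟨t, ht⟩ := Infinite.exists_notMem_finset (s.image (fun i => (- f i m) / f i n))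
      refine ⟨t • n + m, fun i hi => ?_⟩
      rcases Finset.mem_insert.1 hi with rfl | hi
      · simp [han, hm]
      · intro h0
        apply ht
        refine Finset.mem_image.2 ⟨i, hi, ?_⟩
        simp only [map_add, map_smul, smul_eq_mul] at h0
        exact Int.ediv_eq_of_eq_mul_left (hn i hi) (by linarith)

lemma isPosSys_of_hom (φ : M →+ ℤ) (hφ : ∀ i : ι, φ (P.root i) ≠ 0) :
    IsPosSys P {i : ι | 0 < φ (P.root i)} := by
  have hnonneg : ∀ x ∈ natSpan P {i : ι | 0 < φ (P.root i)}, 0 ≤ φ x := by
    intro x hx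
    induction hx using AddSubmonoid.closure_induction with
    | mem y hy =>
      obtain ⟨i, hi, rfl⟩ := hy
      exact le_of_lt hi
    | zero => simp
    | add x y _ _ hx hy => rw [map_add]; exact add_nonneg hx hy
  refine ⟨?_, ?_, ?_⟩
  · intro i hi hi'
    simp only [Set.mem_ofPred_eq, root_negIdx, map_neg] at hi hi'
    omega
  · intro i
    simp only [Set.mem_ofPred_eq, root_negIdx, map_neg]
    have := hφ i
    omega
  · intro k n hn hk
    have h0 := hnonneg _ hk
    rw [map_nsmul, nsmul_eq_mul] at h0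
    have := hφ k
    simp only [Set.mem_ofPred_eq]
    have hn' : (0 : ℤ) < n := by exact_mod_cast hn
    rcases lt_or_gt_of_ne this with h | h
    · nlinarith
    · exact h

variable (P) in
lemma exists_isPosSys [Finite ι] : ∃ S : Set ι, IsPosSys P S := by
  classical
  have : Fintype ι := Fintype.ofFinite ι
  obtain ⟨n, hn⟩ := exists_avoid (Finset.univ : Finset ι) (fun i => P.root' i) (fun i _ h => by
    have := LinearMap.congr_fun h (P.coroot i)
    simp [P.root_coroot_two] at this)
  refine ⟨_, isPosSys_of_hom ((P.toLinearMap.flip n).toAddMonoidHom) (fun i => ?_)⟩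
  exact hn i (Finset.mem_univ i)

end existence

section transitivity

variable [Finite ι]

lemma subset_of_simpleOf_subset {T P' : Set ι} (hT : IsPosSys P T) (hcl : IsClosedSub P P')
    (h : simpleOf P T ⊆ P') : T ⊆ P' := by
  intro k hk
  have := ps_root_mem_natSpan_simpleOf hT hk
  exact (reach_of_mem_natSpan P (natSpan_mono P h this)).mem_of_closed P hcl

/-- If `i` is simple for the positive system `T`, the reflection `s_i` maps `T` minus the multiples
of `i` into `T`. -/
lemma reflectionPerm_mem_of_simpleOf {T : Set ι} (hT : IsPosSys P T) {i k : ι}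
    (hi : i ∈ simpleOf P T) (hk : k ∈ T) (hki : k ≠ i) (hk2 : P.root k ≠ (2 : ℤ) • P.root i) :
    P.reflectionPerm i k ∈ T := by
  classical
  have hΔ := ps_isSimpleSys_simpleOf hT
  have hpos := ps_posOf_simpleOf hT
  rw [← hpos] at hk ⊢
  apply reflectionPerm_mem_posOf hΔ hk hi
  by_contra hcon
  push Not at hcon
  have hck : coeff hΔ k = Finsupp.single i (coeff hΔ k i) := by
    ext j
    by_cases hj : j = i
    · subst hj; simp
    · rw [hcon j hj, Finsupp.single_apply, if_neg (Ne.symm hj)]
  have hk' : P.root k = coeff hΔ k i • P.root i := by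
    have := lc_coeff hΔ k
    rw [hck] at this
    simpa [lc] using this.symm
  have hc0 := (mem_posOf_iff hΔ).1 hk i
  rcases int_of_root_eq_zsmul P hk' with h | h | h | h
  · rw [h, one_smul] at hk'
    exact hki (P.root.injective hk')
  · omega
  · rw [h] at hk'; exact hk2 hk'
  · omega

lemma inter_ssubset_step {T P' : Set ι} (hT : IsPosSys P T) (hcl : IsClosedSub P P') {i : ι}
    (hi : i ∈ simpleOf P T) (hiP : i ∉ P') (hnP : P.reflectionPerm i i ∈ P') :
    T ∩ P' ⊂ ((fun k => RootPairing.Equiv.reflection P i • k) '' T) ∩ P' := by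
  rw [Set.ssubset_iff_of_subset]
  · refine ⟨P.reflectionPerm i i, ⟨⟨i, hi.1, rfl⟩, hnP⟩, fun h => hT.disjoint hi.1 h.1⟩
  · rintro k ⟨hkT, hkP⟩
    refine ⟨⟨P.reflectionPerm i k, ?_, ?_⟩, hkP⟩
    · apply reflectionPerm_mem_of_simpleOf hT hi hkT
      · rintro rfl; exact hiP hkP
      · intro h2
        apply hiP
        refine hcl hkP hnP ?_
        rw [root_negIdx, h2, two_smul]; abel
    · show RootPairing.Equiv.reflection P i • (P.reflectionPerm i k) = k
      rw [reflection_smul_idx, P.reflectionPerm_self]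

theorem exists_weyl_image_subset {S P' : Set ι} (hS : IsPosSys P S)
    (hP2 : ∀ i, i ∈ P' ∨ P.reflectionPerm i i ∈ P') (hcl : IsClosedSub P P') :
    ∃ g : P.Aut, g ∈ P.weylGroup ∧ (fun i => g • i) '' S ⊆ P' := by
  suffices H : ∀ d : ℕ, ∀ g ∈ P.weylGroup,
      Nat.card ι - ((fun i => g • i) '' S ∩ P').ncard = d →
      ∃ g' : P.Aut, g' ∈ P.weylGroup ∧ (fun i => g' • i) '' S ⊆ P' from H _ 1 (one_mem _) rfl
  intro d
  induction d using Nat.strong_induction_on with
  | _ d ih =>
    intro g hg hd
    by_cases h : (fun i => g • i) '' S ⊆ P'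
    · exact ⟨g, hg, h⟩
    · have hT := isPosSys_image g hS
      have : ¬ simpleOf P ((fun i => g • i) '' S) ⊆ P' := fun hsub =>
        h (subset_of_simpleOf_subset hT hcl hsub)
      obtain ⟨i, hi, hiP⟩ := Set.not_subset.1 this
      have hnP := (hP2 i).resolve_left hiP
      have hss := inter_ssubset_step hT hcl hi hiP hnP
      have himg : (fun k => RootPairing.Equiv.reflection P i • k) '' ((fun i => g • i) '' S) =
          (fun k => (RootPairing.Equiv.reflection P i * g) • k) '' S := by
        rw [Set.image_image]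
        simp only [mul_smul]
      rw [himg] at hss
      have hlt := Set.ncard_lt_ncard hss (Set.toFinite _)
      have hle := Set.ncard_le_card
        ((fun k => (RootPairing.Equiv.reflection P i * g) • k) '' S ∩ P')
      exact ih _ (by omega) _ (mul_mem (P.reflection_mem_weylGroup i) hg) rfl

theorem exists_weyl_image_eq {S S' : Set ι} (hS : IsPosSys P S) (hS' : IsPosSys P S') :
    ∃ g : P.Aut, g ∈ P.weylGroup ∧ (fun i => g • i) '' S = S' := by
  obtain ⟨g, hg, hsub⟩ := exists_weyl_image_subset hS hS'.cover (ps_closed hS')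
  refine ⟨g, hg, Set.Subset.antisymm hsub (fun k hk => ?_)⟩
  rcases (isPosSys_image g hS).cover k with h | h
  · exact h
  · exact absurd (hsub h) (hS'.disjoint hk)

/-- `(P 1)`, `(P 2)` and closed imply positive system. -/
theorem isPosSys_of_closed {S : Set ι} (h1 : ∀ i ∈ S, P.reflectionPerm i i ∉ S)
    (h2 : ∀ i : ι, i ∈ S ∨ P.reflectionPerm i i ∈ S) (hcl : IsClosedSub P S) : IsPosSys P S := by
  obtain ⟨S0, hS0⟩ := exists_isPosSys P
  obtain ⟨g, -, hsub⟩ := exists_weyl_image_subset hS0 h2 hcl
  have hT := isPosSys_image g hS0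
  have : (fun i => g • i) '' S0 = S := by
    refine Set.Subset.antisymm hsub (fun k hk => ?_)
    rcases hT.cover k with h | h
    · exact h
    · exact absurd (hsub h) (h1 k hk)
  rwa [this] at hT

end transitivity

end Groth.Agent.H23.RD
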