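import Groth.Agent.H23.RootD.Indiv
import Groth.Agent.H23.RootD.Words
import Groth.Agent.S5455
import Mathlib.LinearAlgebra.RootSystem.Base

/-! Isomorphism theorem for adjoint reduced root data: a Cartan-matrix preserving bijection of
bases extends uniquely to an isomorphism. -/

set_option autoImplicit false

namespace Groth.Agent.H23.RD

open RootD Set RootPairing

section single

variable {ι M N : Type*} [AddCommGroup M] [AddCommGroup N] {P : RootPairing ι ℤ M N}

lemma isIndiv_of_isReduced [P.IsReduced] (i : ι) : IsIndiv P i := by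
  intro j hj
  have hnli : ¬ LinearIndependent ℤ ![P.root i, P.root j] := by
    intro hli
    have := (LinearIndependent.pair_iff.1 hli) 1 (-2) (by rw [one_smul, ← hj]; module)
    exact one_ne_zero this.1
  rcases RootPairing.IsReduced.eq_or_eq_neg (P := P) i j hnli with h | h
  · rw [h] at hj
    have h0 : P.root j = 0 := by
      have : (2 : ℤ) • P.root j - P.root j = 0 := by rw [hj, sub_self]
      rw [two_smul] at this
      simpa using this
    exact P.ne_zero j h0
  · rw [h] at hj
    have h3 : (3 : ℤ) • P.root j = (3 : ℤ) • 0 := by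
      rw [smul_zero]
      have : (2 : ℤ) • P.root j + P.root j = 0 := by rw [hj]; simp
      rw [← this]; module
    exact P.ne_zero j (zsmul_inj P (by norm_num) h3)

lemma isSimpleSys_of_base (b : P.Base) : IsSimpleSys P (↑b.support : Set ι) :=
  ⟨b.linearIndepOn_root, b.root_mem_or_neg_mem⟩

lemma exists_weyl_smul_mem_base [Finite ι] [P.IsReduced] (b : P.Base) (i : ι) :
    ∃ g : P.Aut, g ∈ P.weylGroup ∧ g • i ∈ b.support := by
  obtain ⟨Δ, hΔ, hi⟩ := exists_simpleSys_mem_of_indiv (isIndiv_of_isReduced (P := P) i)
  obtain ⟨g, hg, h⟩ := Groth.Agent.S5455.result P Δ ↑b.support hΔ (isSimpleSys_of_base b)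
  refine ⟨g, hg, ?_⟩
  have : g • i ∈ (fun i : ι => g • i) '' Δ := ⟨i, hi, rfl⟩
  rw [h] at this
  exact this

/-- The basis of the weight lattice of an adjoint root datum given by a base. -/
noncomputable def adjBasis (b : P.Base) (had : Submodule.span ℤ (Set.range P.root) = ⊤) :
    Module.Basis b.support ℤ M :=
  Module.Basis.mk b.linearIndepOn_root <| by
    change ⊤ ≤ Submodule.span ℤ (Set.range <| P.root ∘ ((↑) : b.support → ι))
    simp [Set.range_comp, had]

@[simp] lemma adjBasis_apply (b : P.Base) (had : Submodule.span ℤ (Set.range P.root) = ⊤)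
    (i : b.support) : adjBasis b had i = P.root i := by
  simp [adjBasis]

end single

section iso

variable {ι M N ι' M' N' : Type*} [AddCommGroup M] [AddCommGroup N] [AddCommGroup M']
  [AddCommGroup N'] {P : RootPairing ι ℤ M N} {P' : RootPairing ι' ℤ M' N'}
  (b : P.Base) (b' : P'.Base) (had : Submodule.span ℤ (Set.range P.root) = ⊤)
  (had' : Submodule.span ℤ (Set.range P'.root) = ⊤) (u : ↥b.support ≃ ↥b'.support)

/-- The linear equivalence of weight lattices extending a bijection of bases. -/
noncomputable def baseEquiv : M ≃ₗ[ℤ] M' :=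
  (adjBasis b had).equiv (adjBasis b' had') u

lemma baseEquiv_root (a : b.support) :
    baseEquiv b b' had had' u (P.root a) = P'.root (u a) := by
  rw [← adjBasis_apply b had a, baseEquiv, Module.Basis.equiv_apply, adjBasis_apply]

lemma baseEquiv_symm :
    (baseEquiv b b' had had' u).symm = baseEquiv b' b had' had u.symm :=
  Module.Basis.equiv_symm _ _ _

variable {b b' had had' u}
variable (hu : ∀ i j : ↥b.support, P.pairing (i : ι) (j : ι) = P'.pairing (u i : ι') (u j : ι'))

include hu

lemma baseEquiv_reflection (a : b.support) (m : M) :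
    baseEquiv b b' had had' u (P.reflection a m) =
      P'.reflection (u a) (baseEquiv b b' had had' u m) := by
  have : (baseEquiv b b' had had' u).toLinearMap ∘ₗ (P.reflection a).toLinearMap =
      (P'.reflection (u a)).toLinearMap ∘ₗ (baseEquiv b b' had had' u).toLinearMap := by
    apply (adjBasis b had).ext
    intro c
    simp only [LinearMap.comp_apply, LinearEquiv.coe_coe, adjBasis_apply]
    rw [P.reflection_apply_root, map_sub, map_smul, baseEquiv_root, baseEquiv_root,
      P'.reflection_apply_root, hu c a]
  exact LinearMap.congr_fun this m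

lemma exists_aut_of_mem_weylGroup [Finite ι] {g : P.Aut} (hg : g ∈ P.weylGroup) :
    ∃ g' : P'.Aut, ∀ m : M, baseEquiv b b' had had' u (g • m) =
      g' • baseEquiv b b' had had' u m := by
  rw [weylGroup_eq_closure_simple (isSimpleSys_of_base b)] at hg
  induction hg using Subgroup.closure_induction with
  | mem x hx =>
    obtain ⟨a, ha, rfl⟩ := hx
    exact ⟨Equiv.reflection P' (u ⟨a, ha⟩), fun m => baseEquiv_reflection hu ⟨a, ha⟩ m⟩
  | one => exact ⟨1, fun m => by rw [one_smul, one_smul]⟩
  | mul x y _ _ hx hy =>
    obtain ⟨x', hx'⟩ := hx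
    obtain ⟨y', hy'⟩ := hy
    exact ⟨x' * y', fun m => by rw [mul_smul, mul_smul, hx', hy']⟩
  | inv x _ hx =>
    obtain ⟨x', hx'⟩ := hx
    refine ⟨x'⁻¹, fun m => ?_⟩
    have := hx' (x⁻¹ • m)
    rw [smul_inv_smul] at this
    rw [this, inv_smul_smul]

lemma exists_idx [Finite ι] [P.IsReduced] (i : ι) :
    ∃ j : ι', baseEquiv b b' had had' u (P.root i) = P'.root j ∧
      ∀ m : M, baseEquiv b b' had had' u (P.reflection i m) =
        P'.reflection j (baseEquiv b b' had had' u m) := by
  obtain ⟨g, hg, hgi⟩ := exists_weyl_smul_mem_base b i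
  obtain ⟨h', hh'⟩ := exists_aut_of_mem_weylGroup (had := had) (had' := had') hu
    (P.weylGroup.inv_mem hg)
  obtain ⟨a, ha⟩ : ∃ a : b.support, (a : ι) = g • i := ⟨⟨g • i, hgi⟩, rfl⟩
  have hia : i = g⁻¹ • (a : ι) := by rw [ha, inv_smul_smul]
  have hinv : ∀ m, baseEquiv b b' had had' u (g • m) = h'⁻¹ • baseEquiv b b' had had' u m := by
    intro m
    have := hh' (g • m)
    rw [inv_smul_smul] at this
    rw [this, inv_smul_smul]
  refine ⟨h' • (u a : ι'), ?_, ?_⟩
  · rw [root_smul, ← baseEquiv_root b b' had had' u, ← hh', ← root_smul, ← hia]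
  · intro m
    have hconj : Equiv.reflection P i = g⁻¹ * Equiv.reflection P a * (g⁻¹)⁻¹ := by
      rw [conj_reflection, ← hia]
    have hconj' : Equiv.reflection P' (h' • (u a : ι')) =
        h' * Equiv.reflection P' (u a) * h'⁻¹ := (conj_reflection h' _).symm
    show baseEquiv b b' had had' u (Equiv.reflection P i • m) =
      Equiv.reflection P' (h' • (u a : ι')) • baseEquiv b b' had had' u m
    rw [hconj, hconj', inv_inv, mul_smul, mul_smul, mul_smul, mul_smul, hh', ← hinv]
    congr 1
    exact baseEquiv_reflection hu a (g • m)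

lemma exists_idx' [Finite ι] [P.IsReduced] (i : ι) :
    ∃ j : ι', baseEquiv b b' had had' u (P.root i) = P'.root j ∧
      ∀ m : M, P'.toLinearMap (baseEquiv b b' had had' u m) (P'.coroot j) =
        P.toLinearMap m (P.coroot i) := by
  obtain ⟨j, hj, hrefl⟩ := exists_idx (had := had) (had' := had') hu i
  refine ⟨j, hj, fun m => ?_⟩
  have := hrefl m
  rw [P.reflection_apply, P'.reflection_apply, map_sub, map_smul, hj] at this
  have h2 : (P'.toLinearMap (baseEquiv b b' had had' u m) (P'.coroot j) -
      P.toLinearMap m (P.coroot i)) • P'.root j = 0 := by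
    rw [sub_smul]
    have h3 := sub_right_injective this
    change (P.toLinearMap m (P.coroot i)) • P'.root j =
      (P'.toLinearMap (baseEquiv b b' had had' u m) (P'.coroot j)) • P'.root j at h3
    rw [h3, sub_self]
  by_contra hne
  have : (P'.toLinearMap (baseEquiv b b' had had' u m) (P'.coroot j) -
      P.toLinearMap m (P.coroot i)) • P'.root j = (P'.toLinearMap (baseEquiv b b' had had' u m)
        (P'.coroot j) - P.toLinearMap m (P.coroot i)) • 0 := by rw [h2, smul_zero]
  exact P'.ne_zero j (zsmul_inj P' (sub_ne_zero.2 hne) this)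

/-- Existence part of the isomorphism theorem. -/
theorem exists_equiv_of_base [Finite ι] [Finite ι'] [P.IsReduced] [P'.IsReduced] :
    ∃ e : RootPairing.Equiv P P',
      e.weightMap = (baseEquiv b b' had had' u).toLinearMap := by
  classical
  choose e he hpair using exists_idx' (had := had) (had' := had') hu
  have hu' : ∀ i j : ↥b'.support,
      P'.pairing (i : ι') (j : ι') = P.pairing (u.symm i : ι) (u.symm j : ι) := by
    intro i j
    have := hu (u.symm i) (u.symm j)
    simpa using this.symm
  have hinj : Function.Injective e := by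
    intro i j hij
    apply P.root.injective
    apply (baseEquiv b b' had had' u).injective
    rw [he, he, hij]
  have hsurj : Function.Surjective e := by
    intro j'
    obtain ⟨i, hi, -⟩ := exists_idx' (had := had') (had' := had) hu' j'
    rw [← baseEquiv_symm] at hi
    refine ⟨i, P'.root.injective ?_⟩
    rw [← he, ← hi, LinearEquiv.apply_symm_apply]
  refine ⟨{ weightMap := (baseEquiv b b' had had' u).toLinearMap
            coweightMap := (P'.flip.toPerfPair.trans ((baseEquiv b b' had had' u).dualMap.trans
              P.flip.toPerfPair.symm)).toLinearMap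
            indexEquiv := Equiv.ofBijective e ⟨hinj, hsurj⟩
            weight_coweight_transpose := by ext; simp
            root_weightMap := by ext i; exact he i
            coroot_coweightMap := ?_
            bijective_weightMap := (baseEquiv b b' had had' u).bijective
            bijective_coweightMap := LinearEquiv.bijective _ }, rfl⟩
  funext j
  obtain ⟨i, rfl⟩ := (Equiv.ofBijective e ⟨hinj, hsurj⟩).surjective j
  show (P'.flip.toPerfPair.trans ((baseEquiv b b' had had' u).dualMap.trans
      P.flip.toPerfPair.symm)) (P'.coroot (Equiv.ofBijective e ⟨hinj, hsurj⟩ i)) =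
    P.coroot ((Equiv.ofBijective e ⟨hinj, hsurj⟩).symm (Equiv.ofBijective e ⟨hinj, hsurj⟩ i))
  rw [Equiv.symm_apply_apply, LinearEquiv.trans_apply, LinearEquiv.trans_apply,
    LinearEquiv.symm_apply_eq]
  ext m
  simp
  exact hpair i m

end iso

end Groth.Agent.H23.RD
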