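import Groth.Agent.H23.RootD.Span
import Mathlib.Algebra.Category.Grp.Injective

/-! Positive systems adapted to saturated subsets (lexicographic orders). -/

set_option autoImplicit false

namespace Groth.Agent.H23.RD

open RootD Set

variable {ι M N : Type*} [AddCommGroup M] [AddCommGroup N] {P : RootPairing ι ℤ M N}

lemma isPosSys_of_homQ (φ : M →+ ℚ) (hφ : ∀ i : ι, φ (P.root i) ≠ 0) :
    IsPosSys P {i : ι | 0 < φ (P.root i)} := by
  have hnonneg : ∀ x ∈ natSpan P {i : ι | 0 < φ (P.root i)}, 0 ≤ φ x := by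
    intro x hx
    induction hx using AddSubmonoid.closure_induction with
    | mem y hy =>
      obtain ⟨i, hi, rfl⟩ := hy
      exact le_of_lt hi
    | zero => simp
    | add x y _ _ hx hy => rw [map_add]; exact add_nonneg hx hy
  refine ⟨?_, ?_, ?_⟩
  · intro i hi hi'
    simp only [Set.mem_ofPred_eq, root_negIdx, map_neg] at hi hi'
    linarith
  · intro i
    simp only [Set.mem_ofPred_eq, root_negIdx, map_neg]
    rcases lt_or_gt_of_ne (hφ i) with h | h
    · right; linarith
    · left; exact h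
  · intro k n hn hk
    have h0 := hnonneg _ hk
    rw [map_nsmul, nsmul_eq_mul] at h0
    simp only [Set.mem_ofPred_eq]
    have hn' : (0 : ℚ) < n := by exact_mod_cast hn
    rcases lt_or_gt_of_ne (hφ k) with h | h
    · nlinarith
    · exact h

lemma exists_avoidQ {A : Type*} [AddCommGroup A] {κ : Type*} (s : Finset κ)
    (f : κ → (A →+ ℚ)) (hf : ∀ i ∈ s, f i ≠ 0) : ∃ a : A, ∀ i ∈ s, f i a ≠ 0 := by
  classical
  induction s using Finset.induction_on with
  | empty => exact ⟨0, by simp⟩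
  | insert b s hb ih =>
    obtain ⟨n, hn⟩ := ih (fun i hi => hf i (Finset.mem_insert_of_mem hi))
    by_cases hbn : f b n ≠ 0
    · refine ⟨n, fun i hi => ?_⟩
      rcases Finset.mem_insert.1 hi with rfl | hi
      · exact hbn
      · exact hn i hi
    · push Not at hbn
      obtain ⟨m, hm⟩ : ∃ m, f b m ≠ 0 := by
        by_contra hcon
        push Not at hcon
        exact hf b (Finset.mem_insert_self b s) (AddMonoidHom.ext hcon)
      obtain ⟨t, ht⟩ := Infinite.exists_notMem_finset
        ((s.image (fun i => (- f i m) / f i n)).preimage (Int.cast : ℤ → ℚ)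
          (Int.cast_injective.injOn))
      rw [Finset.mem_preimage] at ht
      refine ⟨t • n + m, fun i hi => ?_⟩
      rcases Finset.mem_insert.1 hi with rfl | hi
      · simp [hbn, hm]
      · intro h0
        apply ht
        refine Finset.mem_image.2 ⟨i, hi, ?_⟩
        simp only [map_add, map_zsmul, zsmul_eq_mul] at h0
        have := hn i hi
        field_simp
        linarith

/-- A saturated set of roots is exactly the vanishing set (on roots) of an additive functional. -/
lemma exists_hom_vanishing_exactly [Finite ι] (R' : Set ι)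
    (hsat : ∀ k : ι, (∃ n : ℕ, 0 < n ∧ n • P.root k ∈ Submodule.span ℤ (P.root '' R')) → k ∈ R') :
    ∃ ψ : M →+ ℚ, ∀ k, ψ (P.root k) = 0 ↔ k ∈ R' := by
  classical
  have : Fintype ι := Fintype.ofFinite ι
  set V := Submodule.span ℤ (P.root '' R') with hV
  let H0 : AddSubgroup (M →+ ℚ) :=
    { carrier := {ψ | ∀ i ∈ R', ψ (P.root i) = 0}
      zero_mem' := fun i _ => rfl
      add_mem' := fun {a b} ha hb i hi => by simp [ha i hi, hb i hi]
      neg_mem' := fun {a} ha i hi => by simp [ha i hi] }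
  have single : ∀ k, k ∉ R' → ∃ ψ ∈ H0, ψ (P.root k) ≠ 0 := by
    intro k hk
    let f : ℤ →ₗ[ℤ] M ⧸ V := LinearMap.toSpanSingleton ℤ _ (V.mkQ (P.root k))
    have hf : Function.Injective f := by
      rw [injective_iff_map_eq_zero]
      intro n hn
      by_contra hn0
      apply hk
      apply hsat
      refine ⟨n.natAbs, Int.natAbs_pos.2 hn0, ?_⟩
      have h1 : n • P.root k ∈ V := by
        simp only [f, LinearMap.toSpanSingleton_apply] at hn
        rw [← map_smul] at hn
        exact (Submodule.Quotient.mk_eq_zero V).1 hn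
      rcases Int.natAbs_eq n with h | h
      · rw [← natCast_zsmul, ← h]; exact h1
      · rw [← natCast_zsmul]
        have : (n.natAbs : ℤ) = -n := by omega
        rw [this, neg_smul]
        exact neg_mem h1
    let g : ℤ →ₗ[ℤ] ℚ := LinearMap.toSpanSingleton ℤ ℚ 1
    obtain ⟨h, hh⟩ := (Module.Baer.of_divisible ℚ).extension_property f hf g
    refine ⟨(h ∘ₗ V.mkQ).toAddMonoidHom, ?_, ?_⟩
    · intro i hi
      have : V.mkQ (P.root i) = 0 :=
        (Submodule.Quotient.mk_eq_zero V).2 (Submodule.subset_span ⟨i, hi, rfl⟩)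
      simp [this]
    · have h1 := LinearMap.congr_fun hh 1
      simp only [LinearMap.coe_comp, Function.comp_apply, f, g, LinearMap.toSpanSingleton_apply,
        one_smul] at h1
      rw [Submodule.mkQ_apply] at h1
      simp [h1]
  obtain ⟨ψ, hψ⟩ := exists_avoidQ (A := H0) (Finset.univ.filter (fun k : ι => k ∉ R'))
    (fun k => (AddMonoidHom.eval (P.root k)).comp H0.subtype) (by
      intro k hk h0
      simp only [Finset.mem_filter, Finset.mem_univ, true_and] at hk
      obtain ⟨ψ, hψ, hne⟩ := single k hk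
      apply hne
      have := DFunLike.congr_fun h0 ⟨ψ, hψ⟩
      simpa using this)
  refine ⟨ψ.1, fun k => ⟨fun h => ?_, fun h => ψ.2 k h⟩⟩
  by_contra hk
  have := hψ k (by simp [hk])
  exact this (by simpa using h)

lemma exists_lex [Finite ι] (ψ1 ψ2 : M →+ ℚ) : ∃ φ : M →+ ℚ, ∀ k : ι,
    (0 < φ (P.root k) ↔ 0 < ψ1 (P.root k) ∨ (ψ1 (P.root k) = 0 ∧ 0 < ψ2 (P.root k))) ∧
    (φ (P.root k) = 0 ↔ ψ1 (P.root k) = 0 ∧ ψ2 (P.root k) = 0) := by
  classical
  have : Fintype ι := Fintype.ofFinite ι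
  set A : ℚ := ∑ k : ι, |ψ2 (P.root k)| + 1 with hA
  set C : ℚ := 1 + ∑ k : ι, (if ψ1 (P.root k) = 0 then 0 else A / |ψ1 (P.root k)|) with hC
  have hApos : 0 < A := by positivity
  have hA2 : ∀ k, |ψ2 (P.root k)| < A := fun k => by
    have := Finset.single_le_sum (f := fun k => |ψ2 (P.root k)|) (fun i _ => abs_nonneg _)
      (Finset.mem_univ k)
    linarith
  have hC1 : ∀ k, ψ1 (P.root k) ≠ 0 → A < C * |ψ1 (P.root k)| := by
    intro k hk
    have hpos : 0 < |ψ1 (P.root k)| := abs_pos.2 hk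
    have hle : A / |ψ1 (P.root k)| ≤
        ∑ k : ι, (if ψ1 (P.root k) = 0 then 0 else A / |ψ1 (P.root k)|) := by
      have := Finset.single_le_sum
        (f := fun k => (if ψ1 (P.root k) = 0 then (0 : ℚ) else A / |ψ1 (P.root k)|))
        (fun i _ => by split_ifs <;> positivity) (Finset.mem_univ k)
      simpa [hk] using this
    have hlt : A / |ψ1 (P.root k)| < C := by rw [hC]; linarith
    calc A = A / |ψ1 (P.root k)| * |ψ1 (P.root k)| := by field_simp
      _ < C * |ψ1 (P.root k)| := mul_lt_mul_of_pos_right hlt hpos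
  refine ⟨(AddMonoidHom.mulLeft C).comp ψ1 + ψ2, fun k => ?_⟩
  simp only [AddMonoidHom.add_apply, AddMonoidHom.comp_apply, AddMonoidHom.coe_mulLeft]
  have hy := abs_lt.1 (hA2 k)
  by_cases hx : ψ1 (P.root k) = 0
  · simp [hx]
  · have hCx := hC1 k hx
    rcases lt_or_gt_of_ne hx with hneg | hpos
    · rw [abs_of_neg hneg] at hCx
      refine ⟨⟨fun h => ?_, ?_⟩, ⟨fun h => ?_, ?_⟩⟩
      · exfalso; linarith
      · rintro (h | ⟨h, _⟩)
        · linarith
        · exact absurd h hx
      · exfalso; linarith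
      · rintro ⟨h, _⟩; exact absurd h hx
    · rw [abs_of_pos hpos] at hCx
      refine ⟨⟨fun _ => Or.inl hpos, fun _ => by linarith⟩, ⟨fun h => ?_, ?_⟩⟩
      · exfalso; linarith
      · rintro ⟨h, _⟩; exact absurd h hx

/-- Face lemma: if `ψ ≥ 0` on the positive system `S`, the positive roots killed by `ψ` are
combinations of the simple roots killed by `ψ`, and indecomposability may be tested inside the face. -/
lemma face_supp [Finite ι] {S : Set ι} (hS : IsPosSys P S) (ψ : M →+ ℚ)
    (hψ : ∀ k ∈ S, 0 ≤ ψ (P.root k)) {k : ι} (hk : k ∈ S) (hk0 : ψ (P.root k) = 0) :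
    ∀ i ∈ (coeff (ps_isSimpleSys_simpleOf hS) k).support, ψ (P.root i) = 0 := by
  classical
  set hΔ := ps_isSimpleSys_simpleOf hS
  have hkpos : k ∈ posOf P (simpleOf P S) := by rw [ps_posOf_simpleOf hS]; exact hk
  have hc0 := (mem_posOf_iff hΔ).1 hkpos
  have h1 : ψ (P.root k) = ∑ l ∈ (coeff hΔ k).support, (coeff hΔ k l : ℚ) * ψ (P.root l) := by
    conv_lhs => rw [← lc_coeff hΔ k]
    simp only [lc, Finsupp.linearCombination_apply, Finsupp.sum, map_sum, map_zsmul, zsmul_eq_mul]
  rw [hk0] at h1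
  have hterm : ∀ l ∈ (coeff hΔ k).support, 0 ≤ (coeff hΔ k l : ℚ) * ψ (P.root l) := by
    intro l hl
    have h2 : (0 : ℚ) ≤ coeff hΔ k l := by exact_mod_cast hc0 l
    exact mul_nonneg h2 (hψ l (simpleOf_subset (coeff_supp hΔ k hl)))
  intro i hi
  have := (Finset.sum_eq_zero_iff_of_nonneg hterm).1 h1.symm i hi
  have hne : (coeff hΔ k i : ℚ) ≠ 0 := by exact_mod_cast Finsupp.mem_support_iff.1 hi
  exact (mul_eq_zero.1 this).resolve_left hne

lemma face_simple {S : Set ι} (ψ : M →+ ℚ)
    (hψ : ∀ k ∈ S, 0 ≤ ψ (P.root k)) {i : ι} (hi : i ∈ S) (hi0 : ψ (P.root i) = 0)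
    (hind : ∀ j ∈ S, ψ (P.root j) = 0 → ∀ k ∈ S, ψ (P.root k) = 0 → P.root i ≠ P.root j + P.root k) :
    i ∈ simpleOf P S := by
  refine ⟨hi, fun j hj k hk h => ?_⟩
  have h1 : ψ (P.root j) + ψ (P.root k) = 0 := by rw [← map_add, ← h, hi0]
  have hj0 := hψ j hj
  have hk0 := hψ k hk
  exact hind j hj (by linarith) k hk (by linarith) h

lemma lc_inj_of_linearIndepOn {Δ : Set ι} (hli : LinearIndepOn ℤ P.root Δ) {c d : ι →₀ ℤ}
    (hc : ↑c.support ⊆ Δ) (hd : ↑d.support ⊆ Δ) (h : lc P c = lc P d) : c = d := by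
  classical
  have hsub : c - d ∈ Finsupp.supported ℤ ℤ Δ := by
    rw [Finsupp.mem_supported]
    intro j hj
    rcases Finset.mem_union.1 (Finsupp.support_sub hj) with h | h
    · exact hc h
    · exact hd h
  have := linearIndepOn_iff.1 hli (c - d) hsub (by simp only [lc] at h; simp [h])
  exact sub_eq_zero.1 this

lemma single_eq_add_false {i : ι} {cj ck : ι →₀ ℤ} (hj0 : ∀ l, 0 ≤ cj l) (hk0 : ∀ l, 0 ≤ ck l)
    (hj : cj ≠ 0) (hk : ck ≠ 0) (h : Finsupp.single i 1 = cj + ck) : False := by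
  classical
  have hi1 := DFunLike.congr_fun h i
  simp only [Finsupp.single_eq_same, Finsupp.coe_add, Pi.add_apply] at hi1
  have hother : ∀ l, l ≠ i → cj l = 0 ∧ ck l = 0 := by
    intro l hl
    have h' := DFunLike.congr_fun h l
    simp only [Finsupp.single_apply, if_neg (Ne.symm hl), Finsupp.coe_add, Pi.add_apply] at h'
    have := hj0 l
    have := hk0 l
    omega
  have h1 := hj0 i
  have h2 := hk0 i
  have hcase : cj i = 0 ∨ ck i = 0 := by omega
  rcases hcase with h' | h'
  · apply hj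
    ext l
    by_cases hl : l = i
    · subst hl; simpa using h'
    · simpa using (hother l hl).1
  · apply hk
    ext l
    by_cases hl : l = i
    · subst hl; simpa using h'
    · simpa using (hother l hl).2

/-- An additive functional with value `1` on each root of a linearly independent set. -/
lemma exists_hom_eq_one {Δ' : Set ι} (hli : LinearIndepOn ℤ P.root Δ') :
    ∃ φ' : M →+ ℚ, ∀ i ∈ Δ', φ' (P.root i) = 1 := by
  classical
  have hli' : LinearIndependent ℤ (fun x : Δ' => P.root x) := hli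
  let U := Submodule.span ℤ (Set.range (fun x : Δ' => P.root x))
  let g : U →ₗ[ℤ] ℚ := (Finsupp.linearCombination ℤ (fun _ : Δ' => (1 : ℚ))) ∘ₗ hli'.repr
  obtain ⟨h, hh⟩ := (Module.Baer.of_divisible ℚ).extension_property U.subtype
    U.injective_subtype g
  refine ⟨h.toAddMonoidHom, fun i hi => ?_⟩
  have hmem : P.root i ∈ U := Submodule.subset_span ⟨⟨i, hi⟩, rfl⟩
  have h1 := LinearMap.congr_fun hh ⟨P.root i, hmem⟩
  simp only [LinearMap.coe_comp, Function.comp_apply, Submodule.subtype_apply, g] at h1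
  have h2 : hli'.repr ⟨P.root i, hmem⟩ = Finsupp.single ⟨i, hi⟩ 1 :=
    hli'.repr_eq_single ⟨i, hi⟩ ⟨P.root i, hmem⟩ rfl
  rw [h2] at h1
  simpa using h1

lemma hom_pos_of_mem_natSpan {Δ' : Set ι} (φ' : M →+ ℚ) (hφ' : ∀ i ∈ Δ', φ' (P.root i) = 1)
    {x : M} (hx : x ∈ natSpan P Δ') (hx0 : x ≠ 0) : 0 < φ' x := by
  classical
  obtain ⟨c, hc0, hcS, rfl⟩ := (mem_natSpan_iff P).1 hx
  have h1 : φ' (lc P c) = ∑ l ∈ c.support, (c l : ℚ) := by
    simp only [lc, Finsupp.linearCombination_apply, Finsupp.sum, map_sum, map_zsmul, zsmul_eq_mul]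
    refine Finset.sum_congr rfl (fun l hl => ?_)
    rw [hφ' l (hcS hl), mul_one]
  rw [h1]
  have hne : c ≠ 0 := by
    rintro rfl
    exact hx0 (by simp [lc])
  obtain ⟨l, hl⟩ : ∃ l, c l ≠ 0 := by
    by_contra hcon
    push Not at hcon
    exact hne (Finsupp.ext hcon)
  refine Finset.sum_pos' (fun i _ => by exact_mod_cast hc0 i) ⟨l, Finsupp.mem_support_iff.2 hl, ?_⟩
  have := hc0 l
  have : 0 < c l := lt_of_le_of_ne this (Ne.symm hl)
  exact_mod_cast this

end Groth.Agent.H23.RD
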