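import Groth.Agent.H23.RootD.Basic
import Mathlib.LinearAlgebra.Dimension.Localization
import Mathlib.LinearAlgebra.Dimension.RankNullity
import Mathlib.LinearAlgebra.FreeModule.PID

/-! Ranks of the root lattice and of the coradical. -/

set_option autoImplicit false

namespace Groth.Agent.H23.RD

open RootD Set Module

variable {ι M N : Type*} [AddCommGroup M] [AddCommGroup N] {P : RootPairing ι ℤ M N}

lemma iInf_ker_coroot'_eq_ker_polarization [Fintype ι] :
    (⨅ i : ι, LinearMap.ker (P.coroot' i) : Submodule ℤ M) = LinearMap.ker P.Polarization := by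
  ext x
  simp only [Submodule.mem_iInf, LinearMap.mem_ker]
  constructor
  · intro h
    rw [P.Polarization_apply]
    exact Finset.sum_eq_zero (fun i _ => by rw [h i, zero_smul])
  · intro h i
    have h1 : P.RootForm x x = 0 := by
      rw [← P.toLinearMap_apply_apply_Polarization, h, map_zero]
    rw [P.rootForm_apply_apply] at h1
    have h2 := (Finset.sum_eq_zero_iff_of_nonneg (fun i _ => mul_self_nonneg _)).1 h1 i
      (Finset.mem_univ i)
    exact mul_self_eq_zero.1 h2

lemma mem_iInf_ker_coroot' {x : M} :
    x ∈ (⨅ i : ι, LinearMap.ker (P.coroot' i) : Submodule ℤ M) ↔ ∀ i, P.coroot' i x = 0 := by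
  simp only [Submodule.mem_iInf, LinearMap.mem_ker]

theorem finrank_coradical_add [Finite ι] [Module.Finite ℤ M] [Module.Finite ℤ N] :
    finrank ℤ (⨅ i : ι, LinearMap.ker (P.coroot' i) : Submodule ℤ M) +
      finrank ℤ (Submodule.span ℤ (Set.range P.root)) = finrank ℤ M := by
  classical
  have := Fintype.ofFinite ι
  rw [iInf_ker_coroot'_eq_ker_polarization]
  have h1 := Submodule.finrank_quotient_add_finrank (LinearMap.ker P.Polarization)
  have h2 : finrank ℤ (M ⧸ LinearMap.ker P.Polarization) =
      finrank ℤ (LinearMap.range P.Polarization) :=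
    (P.Polarization.quotKerEquivRange).finrank_eq
  have hle : LinearMap.range P.Polarization ≤ P.corootSpan ℤ := by
    rintro _ ⟨x, rfl⟩
    rw [P.Polarization_apply]
    exact Submodule.sum_mem _ (fun i _ => Submodule.smul_mem _ _
      (Submodule.subset_span ⟨i, rfl⟩))
  have hge : (P.rootSpan ℤ).map P.Polarization ≤ LinearMap.range P.Polarization :=
    LinearMap.map_le_range
  have h3 := Submodule.finrank_mono hle
  have h4 := Submodule.finrank_mono hge
  rw [P.finrank_rootSpan_map_polarization_eq_finrank_corootSpan] at h4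
  have h5 := P.finrank_corootSpan_eq'
  have h6 : finrank ℤ (Submodule.span ℤ (Set.range P.root)) = finrank ℤ (P.rootSpan ℤ) := rfl
  omega

end Groth.Agent.H23.RD
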