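import Groth.Agent.H23.RootD.Lex
import Groth.Agent.S5495

/-! Rank-two arguments: roots in the rational span of a submodule, rank bound, sign adjustment. -/

set_option autoImplicit false

namespace Groth.Agent.H23.RD

open RootD Set

variable {ι M N : Type*} [AddCommGroup M] [AddCommGroup N] {P : RootPairing ι ℤ M N}

/-- The roots having a positive multiple in a submodule `V`. -/
def ratIn (P : RootPairing ι ℤ M N) (V : Submodule ℤ M) : Set ι :=
  {l | ∃ n : ℕ, 0 < n ∧ n • P.root l ∈ V}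

lemma exists_pos_smul_mem_of_mem_span (V : Submodule ℤ M) {z : M}
    (hz : z ∈ Submodule.span ℤ (P.root '' ratIn P V)) : ∃ n : ℕ, 0 < n ∧ n • z ∈ V := by
  induction hz using Submodule.span_induction with
  | mem x hx =>
    obtain ⟨l, ⟨n, hn, hl⟩, rfl⟩ := hx
    exact ⟨n, hn, hl⟩
  | zero => exact ⟨1, one_pos, by simp⟩
  | add x y _ _ hx hy =>
    obtain ⟨n, hn, hx⟩ := hx
    obtain ⟨m, hm, hy⟩ := hy
    refine ⟨n * m, Nat.mul_pos hn hm, ?_⟩
    rw [smul_add]
    refine add_mem ?_ ?_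
    · rw [mul_comm, mul_smul]; exact V.smul_of_tower_mem m hx
    · rw [mul_smul]; exact V.smul_of_tower_mem n hy
  | smul a x _ hx =>
    obtain ⟨n, hn, hx⟩ := hx
    refine ⟨n, hn, ?_⟩
    rw [smul_comm]
    exact V.smul_mem a hx

lemma ratIn_saturated (V : Submodule ℤ M) : ∀ k : ι,
    (∃ n : ℕ, 0 < n ∧ n • P.root k ∈ Submodule.span ℤ (P.root '' ratIn P V)) → k ∈ ratIn P V := by
  rintro k ⟨n, hn, hk⟩
  obtain ⟨m, hm, h⟩ := exists_pos_smul_mem_of_mem_span V hk
  exact ⟨m * n, Nat.mul_pos hm hn, by rwa [mul_smul]⟩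

/-- Three distinct members of a linearly independent family cannot all have multiples in the span
of two vectors. -/
lemma rank2_false {Δ : Set ι} (hli : LinearIndepOn ℤ P.root Δ) (x y : M)
    {a b c : ι} (ha : a ∈ Δ) (hb : b ∈ Δ) (hc : c ∈ Δ) (hab : a ≠ b) (hac : a ≠ c) (hbc : b ≠ c)
    (hna : ∃ n : ℕ, 0 < n ∧ n • P.root a ∈ Submodule.span ℤ {x, y})
    (hnb : ∃ n : ℕ, 0 < n ∧ n • P.root b ∈ Submodule.span ℤ {x, y})
    (hnc : ∃ n : ℕ, 0 < n ∧ n • P.root c ∈ Submodule.span ℤ {x, y}) : False := by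
  classical
  obtain ⟨na, hna0, hna⟩ := hna
  obtain ⟨nb, hnb0, hnb⟩ := hnb
  obtain ⟨nc, hnc0, hnc⟩ := hnc
  set V := Submodule.span ℤ ({x, y} : Set M) with hV
  set n : ℕ := na * nb * nc with hn
  have hn0 : (n : ℤ) ≠ 0 := by
    have : 0 < n := Nat.mul_pos (Nat.mul_pos hna0 hnb0) hnc0
    exact_mod_cast this.ne'
  let v0 : Fin 3 → Δ := ![⟨a, ha⟩, ⟨b, hb⟩, ⟨c, hc⟩]
  have hinj : Function.Injective v0 := by
    intro s t h
    fin_cases s <;> fin_cases t <;> simp [v0, Subtype.ext_iff] at h ⊢ <;> tauto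
  have hli' : LinearIndependent ℤ (fun x : Δ => P.root x) := hli
  have h1 : LinearIndependent ℤ ((fun x : Δ => P.root x) ∘ v0) := hli'.comp v0 hinj
  let f : M →ₗ[ℤ] M := (n : ℤ) • LinearMap.id
  have hf : LinearMap.ker f = ⊥ := by
    rw [LinearMap.ker_eq_bot]
    intro u w huw
    simp only [f, LinearMap.smul_apply, LinearMap.id_coe, id_eq] at huw
    exact zsmul_inj P hn0 huw
  have h2 := h1.map' f hf
  have hrange : Set.range (f ∘ ((fun x : Δ => P.root x) ∘ v0)) ≤
      Submodule.span ℤ ((↑({x, y} : Finset M) : Set M)) := by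
    have hcoe : ((↑({x, y} : Finset M) : Set M)) = {x, y} := by simp
    rw [hcoe]
    rintro _ ⟨t, rfl⟩
    simp only [Function.comp_apply, f, LinearMap.smul_apply, LinearMap.id_coe, id_eq,
      natCast_zsmul]
    fin_cases t
    · show n • P.root a ∈ V
      rw [hn, mul_assoc, mul_comm, mul_smul]
      exact V.smul_of_tower_mem _ hna
    · show n • P.root b ∈ V
      rw [hn, mul_comm na nb, mul_assoc, mul_comm, mul_smul]
      exact V.smul_of_tower_mem _ hnb
    · show n • P.root c ∈ V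
      rw [hn, mul_smul]
      exact V.smul_of_tower_mem _ hnc
  have h3 := linearIndependent_le_span' _ h2 (↑({x, y} : Finset M) : Set M) hrange
  rw [Cardinal.mk_fin] at h3
  simp only [Finset.coe_sort_coe, Fintype.card_coe] at h3
  have h4 : ({x, y} : Finset M).card ≤ 2 := Finset.card_le_two
  have : (3 : ℕ) ≤ ({x, y} : Finset M).card := by exact_mod_cast h3
  omega

/-- Adjust the sign of a functional to make it positive at a given point. -/
lemma exists_hom_pos (f : M →+ ℚ) (x : M) (hx : f x ≠ 0) :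
    ∃ g : M →+ ℚ, 0 < g x ∧ ∀ y, g y = 0 ↔ f y = 0 := by
  rcases lt_or_gt_of_ne hx with h | h
  · exact ⟨-f, by simpa using h, fun y => by simp⟩
  · exact ⟨f, h, fun y => Iff.rfl⟩

/-- A functional nonvanishing on all roots. -/
lemma exists_hom_nonvanishing [Finite ι] (P : RootPairing ι ℤ M N) :
    ∃ φ : M →+ ℚ, ∀ k, φ (P.root k) ≠ 0 := by
  obtain ⟨φ2, hφ2⟩ := exists_hom_vanishing_exactly (P := P) (∅ : Set ι) (by
    rintro k ⟨n, hn, hk⟩
    exfalso
    simp only [Set.image_empty, Submodule.span_empty, Submodule.mem_bot] at hk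
    have h0 : (n : ℤ) • P.root k = (n : ℤ) • 0 := by rw [natCast_zsmul, hk, smul_zero]
    exact P.ne_zero k (zsmul_inj P (by exact_mod_cast hn.ne') h0))
  exact ⟨φ2, fun k h => (hφ2 k).1 h⟩

/-- A root with a positive multiple in the line of an indivisible root `α` is `±α` or `±2α`. -/
lemma root_eq_zsmul_of_indiv [Finite ι] {i l : ι} (hind : IsIndiv P i)
    (hl : l ∈ ratIn P (Submodule.span ℤ {P.root i})) :
    ∃ t : ℤ, (t = 1 ∨ t = -1 ∨ t = 2 ∨ t = -2) ∧ P.root l = t • P.root i := by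
  obtain ⟨n, hn, hl⟩ := hl
  obtain ⟨m, hm⟩ := Submodule.mem_span_singleton.1 hl
  have hn0 : (n : ℤ) ≠ 0 := by exact_mod_cast hn.ne'
  have h : (n : ℤ) • P.root l = m • P.root i := by rw [natCast_zsmul, hm]
  obtain ⟨t, rfl⟩ := Groth.Agent.S5495.result P i l hind m n hn0 h
  rw [mul_smul] at h
  have h' := zsmul_inj P hn0 h
  exact ⟨t, int_of_root_eq_zsmul P h', h'⟩

end Groth.Agent.H23.RD
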