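import Groth.Agent.H23.RootD.Lex

/-! Characterising the simple system of a positive system; functionals defining positive systems. -/

set_option autoImplicit false

namespace Groth.Agent.H23.RD

open RootD Set

variable {ι M N : Type*} [AddCommGroup M] [AddCommGroup N] {P : RootPairing ι ℤ M N}

/-- Every system of positive roots is the positivity locus of an additive functional. -/
theorem exists_hom_of_isPosSys [Finite ι] {S : Set ι} (hS : IsPosSys P S) :
    ∃ φ : M →+ ℚ, ∀ k : ι, (0 < φ (P.root k) ↔ k ∈ S) ∧ φ (P.root k) ≠ 0 := by
  have hΔ := ps_isSimpleSys_simpleOf hS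
  obtain ⟨φ, hφ⟩ := exists_hom_eq_one (P := P) hΔ.linInd
  have hpos : ∀ k ∈ S, 0 < φ (P.root k) := fun k hk =>
    hom_pos_of_mem_natSpan φ hφ (ps_root_mem_natSpan_simpleOf hS hk) (P.ne_zero k)
  have hneg : ∀ k, k ∉ S → φ (P.root k) < 0 := by
    intro k hk
    have hk' := (hS.cover k).resolve_left hk
    have := hpos _ hk'
    rw [root_negIdx, map_neg] at this
    linarith
  refine ⟨φ, fun k => ?_⟩
  by_cases hk : k ∈ S
  · exact ⟨⟨fun _ => hk, fun _ => hpos k hk⟩, (hpos k hk).ne'⟩
  · exact ⟨⟨fun h => absurd h (not_lt.2 (hneg k hk).le), fun h => absurd h hk⟩, (hneg k hk).ne⟩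

/-- Lemma X: in a reduced datum, a linearly independent subset `D` of a positive system `S` such
that every element of `S` has a positive multiple in `ℕ D` is the simple system of `S`. -/
theorem eq_simpleOf_of_linearIndepOn [Finite ι] [P.IsReduced] {S D : Set ι} (hS : IsPosSys P S)
    (hDS : D ⊆ S) (hli : LinearIndepOn ℤ P.root D)
    (hgen : ∀ k ∈ S, ∃ n : ℕ, 0 < n ∧ n • P.root k ∈ natSpan P D) : D = simpleOf P S := by
  classical
  have hPi := ps_isSimpleSys_simpleOf hS
  have hpos := ps_posOf_simpleOf hS
  have hPiD : simpleOf P S ⊆ D := by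
    intro π hπ
    obtain ⟨n, hn, hmem⟩ := hgen π (simpleOf_subset hπ)
    obtain ⟨c, hc0, hcD, hc⟩ := (mem_natSpan_iff P).1 hmem
    have hexp : (n : ℤ) • Finsupp.single π (1 : ℤ) =
        ∑ x ∈ c.support, c x • coeff hPi x := by
      apply coeff_unique hPi
      · intro x hx
        have h1 := Finsupp.support_smul hx
        have := Finsupp.support_single_subset h1
        rw [Finset.mem_singleton] at this
        rw [this]; exact hπ
      · intro x hx
        obtain ⟨y, hy, hxy⟩ := Finset.mem_biUnion.1 (Finsupp.support_finset_sum hx)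
        exact coeff_supp hPi y (Finsupp.support_smul hxy)
      · unfold lc at hc ⊢
        rw [map_smul, map_sum]
        simp only [map_smul]
        have : ∀ x ∈ c.support, c x • (Finsupp.linearCombination ℤ P.root) (coeff hPi x) =
            c x • P.root x := fun x _ => by
          have := lc_coeff hPi x
          unfold lc at this
          rw [this]
        rw [Finset.sum_congr rfl this, Finsupp.linearCombination_single, one_smul,
          natCast_zsmul, ← hc, Finsupp.linearCombination_apply, Finsupp.sum]
    have hcne : c ≠ 0 := by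
      rintro rfl
      have : (n : ℤ) • P.root π = (n : ℤ) • 0 := by
        rw [natCast_zsmul, ← hc]; simp [lc]
      exact P.ne_zero π (zsmul_inj P (by exact_mod_cast hn.ne') this)
    obtain ⟨x, hx⟩ : ∃ x, c x ≠ 0 := by
      by_contra hcon
      push Not at hcon
      exact hcne (Finsupp.ext hcon)
    have hxsupp : x ∈ c.support := Finsupp.mem_support_iff.2 hx
    have hxS : x ∈ S := hDS (hcD hxsupp)
    have hvan : ∀ y, y ≠ π → coeff hPi x y = 0 := by
      intro y hy
      have h1 := DFunLike.congr_fun hexp y
      simp only [Finsupp.coe_smul, Pi.smul_apply, Finsupp.single_apply, if_neg (Ne.symm hy),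
        smul_eq_mul, mul_zero, Finsupp.coe_finset_sum, Finset.sum_apply] at h1
      have h2 : ∀ z ∈ c.support, 0 ≤ c z * coeff hPi z y := by
        intro z hz
        have hzS : z ∈ S := hDS (hcD hz)
        have := (mem_posOf_iff hPi).1 (by rw [hpos]; exact hzS) y
        exact mul_nonneg (hc0 z) this
      have h3 := (Finset.sum_eq_zero_iff_of_nonneg h2).1 h1.symm x hxsupp
      exact (mul_eq_zero.1 h3).resolve_left hx
    have hxeq : coeff hPi x = Finsupp.single π (coeff hPi x π) := by
      ext y
      by_cases hy : y = π
      · subst hy; simp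
      · rw [hvan y hy, Finsupp.single_apply, if_neg (Ne.symm hy)]
    have hroot : P.root x = coeff hPi x π • P.root π := by
      have h1 := lc_coeff hPi x
      rw [hxeq] at h1
      rw [← h1]
      simp [lc]
    have hnli : ¬ LinearIndependent ℤ ![P.root x, P.root π] := by
      intro hli'
      have := (LinearIndependent.pair_iff.1 hli') 1 (-(coeff hPi x π))
        (by rw [one_smul, neg_smul, ← hroot]; abel)
      exact one_ne_zero this.1
    rcases RootPairing.IsReduced.eq_or_eq_neg (P := P) x π hnli with h | h
    · have : x = π := P.root.injective h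
      rw [← this]; exact hcD hxsupp
    · exfalso
      have : x = P.reflectionPerm π π := by
        apply P.root.injective
        rw [root_negIdx, h]
      exact hS.disjoint (simpleOf_subset hπ) (this ▸ hxS)
  apply Set.Subset.antisymm
  · -- D ⊆ Π
    intro l hl
    by_contra hlPi
    have hsupp1 : (↑(Finsupp.single l (1 : ℤ)).support : Set ι) ⊆ D := by
      intro x hx
      have := Finsupp.support_single_subset hx
      rw [Finset.mem_singleton] at this
      rw [this]; exact hl
    have hlpos : l ∈ posOf P (simpleOf P S) := by rw [hpos]; exact hDS hl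
    have hsupp2 : (↑(coeff hPi l).support : Set ι) ⊆ D := (coeff_supp hPi l).trans hPiD
    have heq := lc_inj_of_linearIndepOn hli hsupp1 hsupp2 (by
      rw [lc_coeff hPi l]; simp [lc])
    have h1 := DFunLike.congr_fun heq l
    rw [Finsupp.single_eq_same, coeff_apply_eq_zero hPi l hlPi] at h1
    exact one_ne_zero h1
  · exact hPiD

end Groth.Agent.H23.RD
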