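import Groth.Agent.H23.RootD.Rank2

/-! Weyl group / automorphism action lemmas. -/

set_option autoImplicit false

namespace Groth.Agent.H23.RD

open RootD Set RootPairing

variable {ι M N : Type*} [AddCommGroup M] [AddCommGroup N] {P : RootPairing ι ℤ M N}

lemma aut_coroot' (g : P.Aut) (x : M) (l : ι) : P.coroot' (g • l) (g • x) = P.coroot' l x := by
  have h := Hom.weight_coweight_transpose_apply P P (P.coroot (g • l)) g.toHom
  have h2 := LinearMap.congr_fun h x
  have h3 := Hom.coroot_coweightMap_apply P P (g • l) g.toHom
  have h4 : g.toHom.indexEquiv.symm (g • l) = l := g.toHom.indexEquiv.symm_apply_apply l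
  rw [h3, h4] at h2
  have h5 : g • x = g.toHom.weightMap x := rfl
  rw [h5]
  simpa using h2

/-- Elements of the group generated by the reflections in `T` move vectors by elements of the span
of the roots of `T`. -/
lemma smul_sub_mem_span_of_mem_closure {T : Set ι} {g : P.Aut}
    (hg : g ∈ Subgroup.closure ((fun i : ι => Equiv.reflection P i) '' T)) (x : M) :
    g • x - x ∈ Submodule.span ℤ (P.root '' T) := by
  induction hg using Subgroup.closure_induction generalizing x with
  | mem g hg =>
    obtain ⟨i, hi, rfl⟩ := hg
    rw [Equiv.reflection_smul, P.reflection_apply]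
    have : x - (P.coroot' i x) • P.root i - x =
        (-(P.coroot' i x)) • P.root i := by module
    rw [this]
    exact Submodule.smul_mem _ _ (Submodule.subset_span ⟨i, hi, rfl⟩)
  | one => simp
  | mul g h _ _ hg hh =>
    rw [mul_smul]
    have h1 := hg (h • x)
    have h2 := hh x
    have : g • h • x - x = (g • h • x - h • x) + (h • x - x) := by abel
    rw [this]
    exact add_mem h1 h2
  | inv g _ hg =>
    have h1 := hg (g⁻¹ • x)
    rw [smul_inv_smul] at h1
    have : g⁻¹ • x - x = -(x - g⁻¹ • x) := by abel
    rw [this]
    exact neg_mem h1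

lemma weyl_smul_sub_mem_rootSpan {g : P.Aut} (hg : g ∈ P.weylGroup) (x : M) :
    g • x - x ∈ P.rootSpan ℤ := by
  have h : g ∈ Subgroup.closure ((fun i : ι => Equiv.reflection P i) '' Set.univ) := by
    rw [Set.image_univ]; exact hg
  have := smul_sub_mem_span_of_mem_closure h x
  rwa [Set.image_univ] at this

/-- An element of the Weyl group fixing every root index is the identity. -/
lemma weyl_eq_one_of_fix [Finite ι] {g : P.Aut} (hg : g ∈ P.weylGroup) (hidx : ∀ l : ι, g • l = l) :
    g = 1 := by
  classical
  have := Fintype.ofFinite ι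
  apply Equiv.weightHom_injective P
  ext x
  show g • x = x
  have hy : g • x - x ∈ P.rootSpan ℤ := weyl_smul_sub_mem_rootSpan hg x
  by_contra hne
  have hy0 : g • x - x ≠ 0 := sub_ne_zero.2 hne
  have hpos := P.rootForm_pos_of_ne_zero hy hy0
  rw [P.rootForm_apply_apply] at hpos
  have h0 : ∀ l, P.coroot' l (g • x - x) = 0 := by
    intro l
    rw [map_sub, sub_eq_zero]
    have := aut_coroot' g x l
    rwa [hidx l] at this
  simp [h0] at hpos

end Groth.Agent.H23.RD
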